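import Cfsg.Agent.FrakL.Ctx

/-!
# 𝔏_G(Y_M) lemmas: facts about `Ē ≤ L / O_p(L)` needed by the assemblies (helper5)
-/

set_option autoImplicit false

namespace Cfsg.Agent.FrakL

variable {G : Type*} [Group G] {p : ℕ} {L Y : Subgroup G}

/-- (E1) `|Ē| = |Y : Y ∩ O_p(L)|`. -/
theorem flk_card_flE (hYL : Y ≤ L) :
    Nat.card (flE p L Y) = (Y ⊓ Cfsg.pCoreOf p L).relIndex Y := by
  have h1 := Subgroup.relIndex_ker (QuotientGroup.mk' (Cfsg.pCore p ↥L)) (K := Y.subgroupOf L)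
  rw [QuotientGroup.ker_mk'] at h1
  rw [← h1, ← flk_pCoreOf_subgroupOf, Subgroup.relIndex_subgroupOf hYL, inf_comm,
    Subgroup.inf_relIndex_right]

/-- `Ē` is a `p`-group. -/
theorem flk_isPGroup_flE (hYp : IsPGroup p Y) : IsPGroup p (flE p L Y) :=
  (hYp.comap_of_injective L.subtype (Subgroup.subtype_injective L)).map _

/-- (E2) `Ē ≠ 1`. -/
theorem FLCtx.flE_ne_bot (C : FLCtx p L Y (Cfsg.pCoreOf p L)) : flE p L Y ≠ ⊥ := by
  intro h
  have hYA : Y ≤ Cfsg.pCoreOf p L := by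
    intro y hy
    have hyL := C.hYL hy
    have : flRho p L ⟨y, hyL⟩ ∈ flE p L Y := fll_mem_flE.mpr ⟨⟨y, hyL⟩, hy, rfl⟩
    rw [h, Subgroup.mem_bot] at this
    exact (fll_rho_eq_one_iff _).mp this
  exact C.hNL ((C.hYcl _ hYA C.hAn).trans C.hAY)

/-- some conjugate of `Y` is not contained in `N(Y)`. -/
theorem FLCtx.exists_conj_not_le (C : FLCtx p L Y (Cfsg.pCoreOf p L)) :
    ∃ g ∈ L, ¬ flConj Y g ≤ Subgroup.normalizer (Y : Set G) := by
  by_contra hcon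
  push Not at hcon
  apply C.hNL
  -- N' := image of the normal closure of Y in L
  set N' : Subgroup G := (Subgroup.normalClosure ((Y.subgroupOf L : Subgroup ↥L) : Set ↥L)).map L.subtype with hN'
  have hYN : Y ≤ N' := by
    intro y hy
    exact ⟨⟨y, C.hYL hy⟩, Subgroup.subset_normalClosure (Subgroup.mem_subgroupOf.mpr hy), rfl⟩
  have hLN : L ≤ Subgroup.normalizer (N' : Set G) := by
    apply flb_le_normalizer_of_conj
    rintro l hl _ ⟨n, hn, rfl⟩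
    have hnorm : (Subgroup.normalClosure ((Y.subgroupOf L : Subgroup ↥L) : Set ↥L)).Normal :=
      Subgroup.normalClosure_normal
    exact ⟨⟨l, hl⟩ * n * ⟨l, hl⟩⁻¹, hnorm.conj_mem n hn ⟨l, hl⟩, rfl⟩
  have hN'le : N' ≤ Subgroup.normalizer (Y : Set G) := by
    rintro _ ⟨n, hn, rfl⟩
    have hle : Subgroup.normalClosure ((Y.subgroupOf L : Subgroup ↥L) : Set ↥L) ≤
        (Subgroup.normalizer (Y : Set G)).subgroupOf L := by
      unfold Subgroup.normalClosure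
      rw [Subgroup.closure_le]
      intro z hz
      obtain ⟨y, hy, hconj⟩ := Group.mem_conjugatesOfSet_iff.mp hz
      obtain ⟨c, rfl⟩ := isConj_iff.mp hconj
      rw [SetLike.mem_coe, Subgroup.mem_subgroupOf]
      push_cast
      exact hcon c c.2 (flx_conj_mem_flConj (Subgroup.mem_subgroupOf.mp hy))
    exact Subgroup.mem_subgroupOf.mp (hle hn)
  exact (C.hYcl N' hYN hLN).trans hN'le

/-- (E3) `L̄` is generated by `Ē` and one conjugate. -/
theorem FLCtx.exists_gen (C : FLCtx p L Y (Cfsg.pCoreOf p L)) :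
    ∃ g : ↥L ⧸ Cfsg.pCore p ↥L, flE p L Y ⊔ flConj (flE p L Y) g = ⊤ := by
  obtain ⟨g, hg, hnot⟩ := C.exists_conj_not_le
  have hC' := C.conj hg
  have hX : Y ⊔ flConj Y g = L := by
    have hle : Y ⊔ flConj Y g ≤ L := sup_le C.hYL hC'.hYL
    by_contra hne
    have hlt : Y ⊔ flConj Y g < L := lt_of_le_of_ne hle hne
    exact hnot (le_sup_right.trans (C.hmax _ le_sup_left hlt))
  refine ⟨flRho p L ⟨g, hg⟩, ?_⟩
  have h1 : (Y ⊔ flConj Y g).subgroupOf L = ⊤ := by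
    rw [hX]; exact Subgroup.subgroupOf_self L
  rw [Subgroup.subgroupOf_sup C.hYL hC'.hYL] at h1
  have h2 := congrArg (Subgroup.map (QuotientGroup.mk' (Cfsg.pCore p ↥L))) h1
  rw [Subgroup.map_sup, Subgroup.map_top_of_surjective _ (QuotientGroup.mk'_surjective _)] at h2
  have h3 : ((flConj Y g).subgroupOf L).map (QuotientGroup.mk' (Cfsg.pCore p ↥L)) =
      flConj (flE p L Y) (flRho p L ⟨g, hg⟩) := by
    ext x
    rw [fll_mem_flConj_flE ⟨g, hg⟩]
    constructor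
    · rintro ⟨n, hn, rfl⟩
      exact ⟨n, Subgroup.mem_subgroupOf.mp hn, rfl⟩
    · rintro ⟨n, hn, rfl⟩
      exact ⟨n, Subgroup.mem_subgroupOf.mpr hn, rfl⟩
  rw [h3] at h2
  exact h2

/-- (E4) a non-`p`-element of `L` stays a non-`p`-element in `L / O_p(L)`. -/
theorem flk_not_pow [hp : Fact p.Prime] {h : G} (hh : h ∈ L) (hnp : ¬ ∃ k : ℕ, orderOf h = p ^ k) :
    ¬ ∃ k : ℕ, orderOf (QuotientGroup.mk' (Cfsg.pCore p ↥L) ⟨h, hh⟩) = p ^ k := by
  rintro ⟨k, hk⟩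
  apply hnp
  have h1 : (flRho p L ⟨h, hh⟩) ^ p ^ k = 1 := by
    show (QuotientGroup.mk' (Cfsg.pCore p ↥L) ⟨h, hh⟩) ^ p ^ k = 1
    rw [← hk]; exact pow_orderOf_eq_one _
  rw [← map_pow, fll_rho_eq_one_iff] at h1
  have hA : IsPGroup p ↥(Cfsg.pCoreOf p L) := Cfsg.Agent.Helper5.isPGroup_pCore_map_subtype p L
  obtain ⟨j, hj⟩ := hA ⟨_, h1⟩
  have hj' : (h ^ p ^ k) ^ p ^ j = 1 := by
    have := congrArg Subtype.val hj
    simpa using this
  rw [← pow_mul, ← pow_add] at hj'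
  obtain ⟨i, -, hi⟩ := (Nat.dvd_prime_pow hp.out).mp (orderOf_dvd_of_pow_eq_one hj')
  exact ⟨i, hi⟩

end Cfsg.Agent.FrakL
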