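import Cfsg.Agent.FrakL.Defs

/-!
# 𝔏_G(Y_M) lemmas: the abstract part (helper5)

For a context `C : FLCtx p L Y A` (see `Defs.lean`): commutator facts, the stability lemma (L3),
the product decomposition `A = D₁ D₂` (L2) and the key fixed-point lemma (L4).
-/

set_option autoImplicit false

namespace Cfsg.Agent.FrakL

variable {G : Type*} [Group G]

/-! ### generalities -/

theorem flb_le_normalizer_of_conj {H P : Subgroup G}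
    (h : ∀ y ∈ H, ∀ n ∈ P, y * n * y⁻¹ ∈ P) : H ≤ Subgroup.normalizer (P : Set G) := by
  intro y hy
  rw [Subgroup.mem_normalizer_iff]
  intro n
  refine ⟨h y hy n, fun hn => ?_⟩
  have := h y⁻¹ (H.inv_mem hy) _ hn
  simpa [mul_assoc] using this

theorem flb_conj_mem_of_le_normalizer {H P : Subgroup G} (h : H ≤ Subgroup.normalizer (P : Set G))
    {y n : G} (hy : y ∈ H) (hn : n ∈ P) : y * n * y⁻¹ ∈ P :=
  (Subgroup.mem_normalizer_iff.mp (h hy) n).mp hn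

theorem flb_conj_mem_of_le_normalizer' {H P : Subgroup G} (h : H ≤ Subgroup.normalizer (P : Set G))
    {y n : G} (hy : y ∈ H) (hn : n ∈ P) : y⁻¹ * n * y ∈ P := by
  have := flb_conj_mem_of_le_normalizer h (H.inv_mem hy) hn
  simpa using this

namespace FLCtx

variable {p : ℕ} {L Y A : Subgroup G}

/-- `[y, a] ∈ Y ∩ A` for `y ∈ Y`, `a ∈ A`. -/
theorem comm_mem (C : FLCtx p L Y A) {y a : G} (hy : y ∈ Y) (ha : a ∈ A) :
    y * a * y⁻¹ * a⁻¹ ∈ Y ⊓ A := by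
  refine Subgroup.mem_inf.mpr ⟨?_, ?_⟩
  · have h1 : a * y⁻¹ * a⁻¹ ∈ Y := flb_conj_mem_of_le_normalizer C.hAY ha (Y.inv_mem hy)
    have : y * a * y⁻¹ * a⁻¹ = y * (a * y⁻¹ * a⁻¹) := by group
    rw [this]
    exact Y.mul_mem hy h1
  · have h1 : y * a * y⁻¹ ∈ A := flb_conj_mem_of_le_normalizer C.hAn (C.hYL hy) ha
    exact A.mul_mem h1 (A.inv_mem ha)

theorem Z_le_A (C : FLCtx p L Y A) : Y ⊓ Subgroup.centralizer (L : Set G) ≤ A := C.hZA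

/-- elements of `Z₀` commute with `L`. -/
theorem Z_comm (_C : FLCtx p L Y A) {z l : G} (hz : z ∈ Y ⊓ Subgroup.centralizer (L : Set G)) (hl : l ∈ L) :
    l * z = z * l :=
  (Subgroup.mem_centralizer_iff.mp (Subgroup.mem_inf.mp hz).2 l hl)

/-- (L3) stability lemma. -/
theorem mem_Z_of_forall (C : FLCtx p L Y A) {d : G} (hd : d ∈ Y)
    (h : ∀ l ∈ L, l * d * l⁻¹ * d⁻¹ ∈ Y ⊓ Subgroup.centralizer (L : Set G)) :
    d ∈ Y ⊓ Subgroup.centralizer (L : Set G) := by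
  -- K := L ⊓ C(d)
  set K : Subgroup G := L ⊓ Subgroup.centralizer ({d} : Set G) with hK
  have hYK : Y ≤ K := by
    intro y hy
    refine Subgroup.mem_inf.mpr ⟨C.hYL hy, ?_⟩
    rw [Subgroup.mem_centralizer_iff]
    intro x hx
    rw [Set.mem_singleton_iff] at hx
    subst hx
    exact C.hYab x hd y hy
  have hnorm : L ≤ Subgroup.normalizer (K : Set G) := by
    apply flb_le_normalizer_of_conj
    intro l hl k hk
    obtain ⟨hkL, hkd⟩ := Subgroup.mem_inf.mp hk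
    refine Subgroup.mem_inf.mpr ⟨L.mul_mem (L.mul_mem hl hkL) (L.inv_mem hl), ?_⟩
    rw [Subgroup.mem_centralizer_iff]
    intro x hx
    rw [Set.mem_singleton_iff] at hx
    subst hx
    have hkx : x * k = k * x := Subgroup.mem_centralizer_iff.mp hkd x rfl
    -- z := l⁻¹ x l x⁻¹ is central in L
    have hz := h l⁻¹ (L.inv_mem hl)
    rw [inv_inv] at hz
    have hzk : k * (l⁻¹ * x * l * x⁻¹) = (l⁻¹ * x * l * x⁻¹) * k := C.Z_comm hz hkL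
    -- so k commutes with l⁻¹ x l
    have h2 : k * (l⁻¹ * x * l) = (l⁻¹ * x * l) * k := by
      have e1 : l⁻¹ * x * l = (l⁻¹ * x * l * x⁻¹) * x := by group
      calc k * (l⁻¹ * x * l) = (k * (l⁻¹ * x * l * x⁻¹)) * x := by group
        _ = ((l⁻¹ * x * l * x⁻¹) * k) * x := by rw [hzk]
        _ = (l⁻¹ * x * l * x⁻¹) * (x * k) := by rw [mul_assoc, hkx]
        _ = (l⁻¹ * x * l) * k := by group
    calc x * (l * k * l⁻¹) = l * ((l⁻¹ * x * l) * k) * l⁻¹ := by group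
      _ = l * (k * (l⁻¹ * x * l)) * l⁻¹ := by rw [h2]
      _ = l * k * l⁻¹ * x := by group
  have hLK : L ≤ K := C.hYcl K hYK hnorm
  refine Subgroup.mem_inf.mpr ⟨hd, ?_⟩
  rw [Subgroup.mem_centralizer_iff]
  intro l hl
  have := (Subgroup.mem_inf.mp (hLK hl)).2
  rw [Subgroup.mem_centralizer_iff] at this
  exact (this d rfl).symm

end FLCtx

/-! ### the stabilizer subgroup `{l ∈ L | [l, b] ∈ Z}` for a subgroup `Z` central in `L` -/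

/-- `{a ∈ L | a b a⁻¹ b⁻¹ ∈ Z}` is a subgroup when `Z` is centralized by `L`. -/
def flStab (L Z : Subgroup G) (hZ : ∀ z ∈ Z, ∀ l ∈ L, l * z = z * l) (b : G) : Subgroup G where
  carrier := {a | a ∈ L ∧ a * b * a⁻¹ * b⁻¹ ∈ Z}
  one_mem' := ⟨L.one_mem, by simp⟩
  mul_mem' := by
    rintro a a' ⟨haL, ha⟩ ⟨ha'L, ha'⟩
    refine ⟨L.mul_mem haL ha'L, ?_⟩
    have e : a * a' * b * (a * a')⁻¹ * b⁻¹ = (a * (a' * b * a'⁻¹ * b⁻¹)) * (b * a⁻¹ * b⁻¹) := by group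
    rw [e, hZ _ ha' a haL]
    have e2 : a' * b * a'⁻¹ * b⁻¹ * a * (b * a⁻¹ * b⁻¹) = (a' * b * a'⁻¹ * b⁻¹) * (a * b * a⁻¹ * b⁻¹) := by
      group
    rw [e2]
    exact Z.mul_mem ha' ha
  inv_mem' := by
    rintro a ⟨haL, ha⟩
    refine ⟨L.inv_mem haL, ?_⟩
    have h1 := hZ _ (Z.inv_mem ha) a⁻¹ (L.inv_mem haL)
    have e : a⁻¹ * b * a⁻¹⁻¹ * b⁻¹ = a⁻¹ * (a * b * a⁻¹ * b⁻¹)⁻¹ * a := by group
    rw [e, h1]
    have e2 : (a * b * a⁻¹ * b⁻¹)⁻¹ * a⁻¹ * a = (a * b * a⁻¹ * b⁻¹)⁻¹ := by group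
    rw [e2]
    exact Z.inv_mem ha

theorem mem_flStab {L Z : Subgroup G} {hZ : ∀ z ∈ Z, ∀ l ∈ L, l * z = z * l} {b a : G} :
    a ∈ flStab L Z hZ b ↔ a ∈ L ∧ a * b * a⁻¹ * b⁻¹ ∈ Z := Iff.rfl

theorem flStab_le {L Z : Subgroup G} (hZ : ∀ z ∈ Z, ∀ l ∈ L, l * z = z * l) (b : G) :
    flStab L Z hZ b ≤ L := fun _ h => h.1

/-! ### two conjugates generating `L` -/

section Pair

variable {p : ℕ} {L A Y₁ Y₂ : Subgroup G}

/-- `A` normalizes `Y ⊓ A`. -/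
theorem FLCtx.A_le_normalizer_D {Y : Subgroup G} (C : FLCtx p L Y A) :
    A ≤ Subgroup.normalizer ((Y ⊓ A : Subgroup G) : Set G) := by
  apply flb_le_normalizer_of_conj
  intro a ha n hn
  obtain ⟨hnY, hnA⟩ := Subgroup.mem_inf.mp hn
  exact Subgroup.mem_inf.mpr ⟨flb_conj_mem_of_le_normalizer C.hAY ha hnY,
    A.mul_mem (A.mul_mem ha hnA) (A.inv_mem ha)⟩

theorem flb_Y_le_normalizer_sup (C₁ : FLCtx p L Y₁ A) (_C₂ : FLCtx p L Y₂ A) :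
    Y₁ ≤ Subgroup.normalizer (((Y₁ ⊓ A) ⊔ (Y₂ ⊓ A) : Subgroup G) : Set G) := by
  apply flb_le_normalizer_of_conj
  intro y hy n hn
  have hle : (Y₁ ⊓ A) ⊔ (Y₂ ⊓ A) ≤
      ((Y₁ ⊓ A) ⊔ (Y₂ ⊓ A)).comap (MulAut.conj y).toMonoidHom := by
    refine sup_le ?_ ?_
    · intro x hx
      rw [Subgroup.mem_comap]
      show y * x * y⁻¹ ∈ _
      have hxY := (Subgroup.mem_inf.mp hx).1
      have : y * x * y⁻¹ = x := by
        rw [C₁.hYab y hy x hxY]; group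
      rw [this]
      exact Subgroup.mem_sup_left hx
    · intro x hx
      rw [Subgroup.mem_comap]
      show y * x * y⁻¹ ∈ _
      have hxA := (Subgroup.mem_inf.mp hx).2
      have e : y * x * y⁻¹ = (y * x * y⁻¹ * x⁻¹) * x := by group
      rw [e]
      exact Subgroup.mul_mem _ (Subgroup.mem_sup_left (C₁.comm_mem hy hxA)) (Subgroup.mem_sup_right hx)
  have := hle hn
  rw [Subgroup.mem_comap] at this
  exact this

theorem flb_A_le_sup (C₁ : FLCtx p L Y₁ A) (C₂ : FLCtx p L Y₂ A) (hgen : L ≤ Y₁ ⊔ Y₂) :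
    A ≤ (Y₁ ⊓ A) ⊔ (Y₂ ⊓ A) := by
  apply C₁.hAcl _ le_sup_left
  refine hgen.trans (sup_le (flb_Y_le_normalizer_sup C₁ C₂) ?_)
  have := flb_Y_le_normalizer_sup C₂ C₁
  rwa [sup_comm] at this

/-- (L2a) `A = D₁ D₂`. -/
theorem flb_exists_decomp (C₁ : FLCtx p L Y₁ A) (C₂ : FLCtx p L Y₂ A) (hgen : L ≤ Y₁ ⊔ Y₂)
    {a : G} (ha : a ∈ A) : ∃ d ∈ Y₁ ⊓ A, ∃ e ∈ Y₂ ⊓ A, a = d * e := by
  have h1 : a ∈ ((Y₁ ⊓ A) ⊔ (Y₂ ⊓ A) : Subgroup G) := flb_A_le_sup C₁ C₂ hgen ha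
  have hLE : Y₁ ⊓ A ≤ Subgroup.normalizer ((Y₂ ⊓ A : Subgroup G) : Set G) :=
    inf_le_right.trans C₂.A_le_normalizer_D
  have h2 := Subgroup.coe_mul_of_left_le_normalizer_right (Y₁ ⊓ A) (Y₂ ⊓ A) hLE
  have h3 : a ∈ ((((Y₁ ⊓ A) ⊔ (Y₂ ⊓ A) : Subgroup G)) : Set G) := h1
  rw [h2] at h3
  obtain ⟨d, hd, e, he, hde⟩ := Set.mem_mul.mp h3
  exact ⟨d, hd, e, he, hde.symm⟩

/-- (L2b) `D₁ ∩ D₂ ≤ Z₀`. -/
theorem flb_inf_le_Z (C₁ : FLCtx p L Y₁ A) (C₂ : FLCtx p L Y₂ A) (hgen : L ≤ Y₁ ⊔ Y₂)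
    {x : G} (h1 : x ∈ Y₁) (h2 : x ∈ Y₂) : x ∈ Y₁ ⊓ Subgroup.centralizer (L : Set G) := by
  refine Subgroup.mem_inf.mpr ⟨h1, ?_⟩
  have hK : Y₁ ⊔ Y₂ ≤ Subgroup.centralizer ({x} : Set G) := by
    refine sup_le ?_ ?_
    · intro y hy
      rw [Subgroup.mem_centralizer_iff]
      intro m hm
      rw [Set.mem_singleton_iff] at hm
      subst hm
      exact C₁.hYab m h1 y hy
    · intro y hy
      rw [Subgroup.mem_centralizer_iff]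
      intro m hm
      rw [Set.mem_singleton_iff] at hm
      subst hm
      exact C₂.hYab m h2 y hy
  rw [Subgroup.mem_centralizer_iff]
  intro l hl
  have := hK (hgen hl)
  rw [Subgroup.mem_centralizer_iff] at this
  exact (this x rfl).symm

theorem flb_comm_inv_mem {Z : Subgroup G} {a b : G} (h : a * b * a⁻¹ * b⁻¹ ∈ Z) :
    b * a * b⁻¹ * a⁻¹ ∈ Z := by
  have := Z.inv_mem h
  have e : (a * b * a⁻¹ * b⁻¹)⁻¹ = b * a * b⁻¹ * a⁻¹ := by group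
  rwa [e] at this

/-- `[D₁, D₂] ≤ Z₀` elementwise. -/
theorem flb_comm_D_mem_Z (C₁ : FLCtx p L Y₁ A) (C₂ : FLCtx p L Y₂ A) (hgen : L ≤ Y₁ ⊔ Y₂)
    {x b : G} (hx : x ∈ Y₁ ⊓ A) (hb : b ∈ Y₂ ⊓ A) :
    x * b * x⁻¹ * b⁻¹ ∈ Y₁ ⊓ Subgroup.centralizer (L : Set G) := by
  obtain ⟨hxY, hxA⟩ := Subgroup.mem_inf.mp hx
  obtain ⟨hbY, hbA⟩ := Subgroup.mem_inf.mp hb
  apply flb_inf_le_Z C₁ C₂ hgen
  · have h1 : b * x⁻¹ * b⁻¹ ∈ Y₁ := flb_conj_mem_of_le_normalizer C₁.hAY hbA (Y₁.inv_mem hxY)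
    have e : x * b * x⁻¹ * b⁻¹ = x * (b * x⁻¹ * b⁻¹) := by group
    rw [e]
    exact Y₁.mul_mem hxY h1
  · have h1 : x * b * x⁻¹ ∈ Y₂ := flb_conj_mem_of_le_normalizer C₂.hAY hxA hbY
    exact Y₂.mul_mem h1 (Y₂.inv_mem hbY)

/-- (L2c) `[A, A] ≤ Z₀` elementwise. -/
theorem flb_comm_A_mem_Z (C₁ : FLCtx p L Y₁ A) (C₂ : FLCtx p L Y₂ A) (hgen : L ≤ Y₁ ⊔ Y₂)
    {a b : G} (ha : a ∈ A) (hb : b ∈ A) :
    a * b * a⁻¹ * b⁻¹ ∈ Y₁ ⊓ Subgroup.centralizer (L : Set G) := by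
  have hZc : ∀ z ∈ Y₁ ⊓ Subgroup.centralizer (L : Set G), ∀ l ∈ L, l * z = z * l :=
    fun z hz l hl => C₁.Z_comm hz hl
  -- step 1: for `b` in `D₁` or `D₂`, `A ≤ flStab b`
  have step1 : ∀ b : G, (b ∈ Y₁ ⊓ A ∨ b ∈ Y₂ ⊓ A) → A ≤ flStab L _ hZc b := by
    intro b hb
    refine (flb_A_le_sup C₁ C₂ hgen).trans (sup_le ?_ ?_)
    · intro x hx
      refine ⟨C₁.hAL (Subgroup.mem_inf.mp hx).2, ?_⟩
      rcases hb with hb | hb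
      · have : x * b * x⁻¹ * b⁻¹ = 1 := by
          rw [C₁.hYab x (Subgroup.mem_inf.mp hx).1 b (Subgroup.mem_inf.mp hb).1]; group
        rw [this]; exact Subgroup.one_mem _
      · exact flb_comm_D_mem_Z C₁ C₂ hgen hx hb
    · intro x hx
      refine ⟨C₁.hAL (Subgroup.mem_inf.mp hx).2, ?_⟩
      rcases hb with hb | hb
      · exact flb_comm_inv_mem (flb_comm_D_mem_Z C₁ C₂ hgen hb hx)
      · have : x * b * x⁻¹ * b⁻¹ = 1 := by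
          rw [C₂.hYab x (Subgroup.mem_inf.mp hx).1 b (Subgroup.mem_inf.mp hb).1]; group
        rw [this]; exact Subgroup.one_mem _
  -- step 2
  have step2 : A ≤ flStab L _ hZc a := by
    refine (flb_A_le_sup C₁ C₂ hgen).trans (sup_le ?_ ?_)
    · intro x hx
      exact ⟨C₁.hAL (Subgroup.mem_inf.mp hx).2, flb_comm_inv_mem (step1 x (Or.inl hx) ha).2⟩
    · intro x hx
      exact ⟨C₁.hAL (Subgroup.mem_inf.mp hx).2, flb_comm_inv_mem (step1 x (Or.inr hx) ha).2⟩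
  exact flb_comm_inv_mem (step2 hb).2

/-- (L4) the key lemma, for two contexts with the same `Z₀`. -/
theorem flb_fixed_of_pair (C₁ : FLCtx p L Y₁ A) (C₂ : FLCtx p L Y₂ A)
    (hZ : Y₁ ⊓ Subgroup.centralizer (L : Set G) = Y₂ ⊓ Subgroup.centralizer (L : Set G))
    {y₁ y₂ a₀ : G} (hy₁ : y₁ ∈ Y₁) (hy₂ : y₂ ∈ Y₂) (ha₀ : a₀ ∈ A)
    (h1 : y₁ ∉ Subgroup.normalizer (Y₂ : Set G)) (h2 : y₂ ∉ Subgroup.normalizer (Y₁ : Set G)) :
    ∀ a ∈ A, (y₁ * y₂ * a₀) * a * (y₁ * y₂ * a₀)⁻¹ * a⁻¹ ∈ Y₁ ⊓ Subgroup.centralizer (L : Set G) →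
      a ∈ Y₁ ⊓ Subgroup.centralizer (L : Set G) := by
  intro a ha hfix
  set Z : Subgroup G := Y₁ ⊓ Subgroup.centralizer (L : Set G) with hZdef
  have hZc : ∀ z ∈ Z, ∀ l ∈ L, l * z = z * l := fun z hz l hl => C₁.Z_comm hz hl
  -- generation
  have hgen : L ≤ Y₁ ⊔ Y₂ := by
    have hle : Y₁ ⊔ Y₂ ≤ L := sup_le C₁.hYL C₂.hYL
    by_contra hcon
    have hlt : Y₁ ⊔ Y₂ < L := lt_of_le_of_ne hle (fun e => hcon (le_of_eq e.symm))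
    exact h1 (C₂.hmax _ le_sup_right hlt (Subgroup.mem_sup_left hy₁))
  obtain ⟨d, hd, e, he, rfl⟩ := flb_exists_decomp C₁ C₂ hgen ha
  obtain ⟨hdY, hdA⟩ := Subgroup.mem_inf.mp hd
  obtain ⟨heY, heA⟩ := Subgroup.mem_inf.mp he
  have hy₁L := C₁.hYL hy₁
  have hy₂L := C₂.hYL hy₂
  -- the central elements
  set z₀ := a₀ * (d * e) * a₀⁻¹ * (d * e)⁻¹ with hz₀
  have hz₀Z : z₀ ∈ Z := flb_comm_A_mem_Z C₁ C₂ hgen ha₀ ha
  set c₂ := y₂ * d * y₂⁻¹ * d⁻¹ with hc₂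
  have hc₂D : c₂ ∈ Y₂ ⊓ A := C₂.comm_mem hy₂ hdA
  set c₁ := y₁⁻¹ * e * y₁⁻¹⁻¹ * e⁻¹ with hc₁
  have hc₁D : c₁ ∈ Y₁ ⊓ A := C₁.comm_mem (Y₁.inv_mem hy₁) heA
  -- y₂ centralizes e, y₁ centralizes d
  have hy₂e : y₂ * e = e * y₂ := C₂.hYab y₂ hy₂ e heY
  have hy₁d : y₁ * d = d * y₁ := C₁.hYab y₁ hy₁ d hdY
  -- main identity: c₂ = z * z₀⁻¹ * c₁ with z the given fixed commutator
  set z := (y₁ * y₂ * a₀) * (d * e) * (y₁ * y₂ * a₀)⁻¹ * (d * e)⁻¹ with hz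
  have hzZ : z ∈ Z := hfix
  have hzz : z * z₀⁻¹ ∈ Z := Z.mul_mem hzZ (Z.inv_mem hz₀Z)
  have key : c₂ = (z * z₀⁻¹) * c₁ := by
    -- z = y₁ y₂ (z₀ d e) y₂⁻¹ y₁⁻¹ (d e)⁻¹ ; move the central z₀ out
    have e1 : z = y₁ * y₂ * z₀ * ((d * e) * y₂⁻¹ * y₁⁻¹ * (d * e)⁻¹) := by
      rw [hz, hz₀]; group
    have e2 : y₁ * y₂ * z₀ = z₀ * (y₁ * y₂) := hZc z₀ hz₀Z _ (L.mul_mem hy₁L hy₂L)
    rw [e2] at e1
    -- so z z₀⁻¹ = y₁ y₂ d e y₂⁻¹ y₁⁻¹ (d e)⁻¹ (z₀ central)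
    have e3 : z * z₀⁻¹ = y₁ * y₂ * ((d * e) * y₂⁻¹ * y₁⁻¹ * (d * e)⁻¹) := by
      have hc := hZc z₀⁻¹ (Z.inv_mem hz₀Z) _ (L.mul_mem hy₁L hy₂L)
      rw [e1]
      have : z₀ * (y₁ * y₂) * (d * e * y₂⁻¹ * y₁⁻¹ * (d * e)⁻¹) * z₀⁻¹
          = z₀ * ((y₁ * y₂) * (d * e * y₂⁻¹ * y₁⁻¹ * (d * e)⁻¹) * z₀⁻¹) := by group
      rw [this]
      have hmem : (y₁ * y₂) * (d * e * y₂⁻¹ * y₁⁻¹ * (d * e)⁻¹) ∈ L := by
        have hdeL : d * e ∈ L := C₁.hAL ha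
        exact L.mul_mem (L.mul_mem hy₁L hy₂L)
          (L.mul_mem (L.mul_mem (L.mul_mem hdeL (L.inv_mem hy₂L)) (L.inv_mem hy₁L)) (L.inv_mem hdeL))
      rw [hZc z₀⁻¹ (Z.inv_mem hz₀Z) _ hmem]
      group
    -- rewrite with y₂ e = e y₂ and y₁ d = d y₁
    have e4 : y₁ * y₂ * ((d * e) * y₂⁻¹ * y₁⁻¹ * (d * e)⁻¹)
        = y₁ * (c₂ * d * e) * y₁⁻¹ * (d * e)⁻¹ := by
      have : y₂ * (d * e) * y₂⁻¹ = c₂ * d * e := by
        rw [hc₂]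
        have hy₂e' : y₂⁻¹ * e = e * y₂⁻¹ := (Commute.inv_left (show Commute y₂ e from hy₂e)).eq
        calc y₂ * (d * e) * y₂⁻¹ = y₂ * d * (e * y₂⁻¹) := by group
          _ = y₂ * d * (y₂⁻¹ * e) := by rw [hy₂e']
          _ = y₂ * d * y₂⁻¹ * d⁻¹ * d * e := by group
      calc y₁ * y₂ * ((d * e) * y₂⁻¹ * y₁⁻¹ * (d * e)⁻¹)
          = y₁ * (y₂ * (d * e) * y₂⁻¹) * y₁⁻¹ * (d * e)⁻¹ := by group
        _ = y₁ * (c₂ * d * e) * y₁⁻¹ * (d * e)⁻¹ := by rw [this]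
    -- hence y₁⁻¹ (z z₀⁻¹) (d e) y₁ = c₂ d e
    have e5 : c₂ * d * e = (z * z₀⁻¹) * (y₁⁻¹ * (d * e) * y₁) := by
      have hc := hZc (z * z₀⁻¹) hzz y₁⁻¹ (L.inv_mem hy₁L)
      have : c₂ * d * e = y₁⁻¹ * (z * z₀⁻¹) * (d * e) * y₁ := by
        rw [e3, e4]; group
      rw [this, hc]; group
    -- y₁⁻¹ d e y₁ = d c₁ e
    have e6 : y₁⁻¹ * (d * e) * y₁ = d * c₁ * e := by
      rw [hc₁]
      have hy₁d' : y₁⁻¹ * d = d * y₁⁻¹ := (Commute.inv_left (show Commute y₁ d from hy₁d)).eq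
      calc y₁⁻¹ * (d * e) * y₁ = (y₁⁻¹ * d) * e * y₁ := by group
        _ = (d * y₁⁻¹) * e * y₁ := by rw [hy₁d']
        _ = d * (y₁⁻¹ * e * y₁⁻¹⁻¹ * e⁻¹) * e := by group
    rw [e6] at e5
    -- c₂ d e = zz d c₁ e, d and c₁ commute, cancel
    have hdc : d * c₁ = c₁ * d := C₁.hYab d hdY c₁ (Subgroup.mem_inf.mp hc₁D).1
    have e7 : c₂ * d * e = (z * z₀⁻¹) * c₁ * (d * e) := by
      rw [e5]
      calc z * z₀⁻¹ * (d * c₁ * e) = z * z₀⁻¹ * ((d * c₁) * e) := by group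
        _ = z * z₀⁻¹ * ((c₁ * d) * e) := by rw [hdc]
        _ = z * z₀⁻¹ * c₁ * (d * e) := by group
    have e8 : c₂ * (d * e) = (z * z₀⁻¹) * c₁ * (d * e) := by rw [← e7]; group
    exact mul_right_cancel e8
  -- c₂ ∈ D₁ ∩ D₂
  have hZD : Z ≤ Y₁ ⊓ A := le_inf inf_le_left C₁.hZA
  have hc₂Z : c₂ ∈ Z := by
    apply flb_inf_le_Z C₁ C₂ hgen
    · rw [key]
      exact Y₁.mul_mem (Subgroup.mem_inf.mp (hZD hzz)).1 (Subgroup.mem_inf.mp hc₁D).1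
    · exact (Subgroup.mem_inf.mp hc₂D).1
  have hc₁Z : c₁ ∈ Z := by
    have : c₁ = (z * z₀⁻¹)⁻¹ * c₂ := by rw [key]; group
    rw [this]
    exact Z.mul_mem (Z.inv_mem hzz) hc₂Z
  -- d ∈ Z
  have hdZ : d ∈ Z := by
    apply C₁.mem_Z_of_forall hdY
    have hK : L ≤ flStab L Z hZc d := by
      by_contra hcon
      have hlt : flStab L Z hZc d < L :=
        lt_of_le_of_ne (flStab_le hZc d) (fun e => hcon (le_of_eq e.symm))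
      have hY₁K : Y₁ ≤ flStab L Z hZc d := by
        intro y hy
        refine ⟨C₁.hYL hy, ?_⟩
        have : y * d * y⁻¹ * d⁻¹ = 1 := by rw [C₁.hYab y hy d hdY]; group
        rw [this]; exact Z.one_mem
      have := C₁.hmax _ hY₁K hlt
      exact h2 (this ⟨hy₂L, hc₂Z⟩)
    intro l hl
    exact (hK hl).2
  -- e ∈ Z
  have heZ : e ∈ Z := by
    have hZ2 : ∀ l ∈ L, l * e * l⁻¹ * e⁻¹ ∈ Y₂ ⊓ Subgroup.centralizer (L : Set G) := by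
      have hK : L ≤ flStab L Z hZc e := by
        by_contra hcon
        have hlt : flStab L Z hZc e < L :=
          lt_of_le_of_ne (flStab_le hZc e) (fun e' => hcon (le_of_eq e'.symm))
        have hY₂K : Y₂ ≤ flStab L Z hZc e := by
          intro y hy
          refine ⟨C₂.hYL hy, ?_⟩
          have : y * e * y⁻¹ * e⁻¹ = 1 := by rw [C₂.hYab y hy e heY]; group
          rw [this]; exact Z.one_mem
        have hn := C₂.hmax _ hY₂K hlt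
        have hy₁inv : y₁⁻¹ ∈ flStab L Z hZc e := ⟨L.inv_mem hy₁L, hc₁Z⟩
        have := hn ((flStab L Z hZc e).inv_mem hy₁inv)
        rw [inv_inv] at this
        exact h1 this
      intro l hl
      rw [← hZ]
      exact (hK hl).2
    have := C₂.mem_Z_of_forall heY hZ2
    rw [← hZ] at this
    exact this
  exact Z.mul_mem hdZ heZ

end Pair

end Cfsg.Agent.FrakL
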