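import Cfsg.Agent.FrakL.Asm
import Cfsg.Prelude.Def_Sz

/-!
# 𝔏_G(Y_M) lemmas: the case split on `L / O_p(L)` (helper5)
-/

set_option autoImplicit false

namespace Cfsg.Agent.FrakL

variable {G : Type*} [Group G]

theorem flk_charP_of_card {F : Type*} [Field F] [Fintype F] {p k : ℕ} (hp : p.Prime)
    (h : Fintype.card F = p ^ k) : CharP F p := by
  obtain ⟨q, hq⟩ := CharP.exists F
  haveI := hq
  obtain ⟨n, hqp, hn⟩ := FiniteField.card F q
  have hk : k ≠ 0 := by
    rintro rfl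
    have := Fintype.one_lt_card (α := F)
    rw [h, pow_zero] at this
    omega
  have hdvd : p ∣ q ^ (n : ℕ) := by
    rw [← hn, h]; exact dvd_pow_self p hk
  have hpq : p = q := (Nat.prime_dvd_prime_iff_eq hp hqp).mp (hp.dvd_of_dvd_pow hdvd)
  rw [hpq]; exact hq

/-- the clean case split. -/
theorem flk_cases [Finite G] {p : ℕ} [hp : Fact p.Prime] {M L : Subgroup G} (hL : Cfsg.IsInFrakL p M L) :
    (∃ (F : Type) (_ : Field F) (_ : Fintype F) (_ : CharP F p)
        (φ : (↥L ⧸ Cfsg.pCore p ↥L) ≃* Matrix.SpecialLinearGroup (Fin 2) F),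
        Nat.card ((flE p L (Cfsg.largestPReducedOf p M)).map φ.toMonoidHom) = Fintype.card F) ∨
    (p = 2 ∧ ∃ (F : Type) (_ : Field F) (_ : Fintype F) (m : ℕ)
        (φ : (↥L ⧸ Cfsg.pCore p ↥L) ≃* ↥(Cfsg.Lie.Sz F (2 ^ (m + 1)))),
        1 ≤ m ∧ Fintype.card F = 2 ^ (2 * m + 1) ∧
        Nat.card ((flE p L (Cfsg.largestPReducedOf p M)).map φ.toMonoidHom) = Fintype.card F ∧
        ∀ a ∈ (flE p L (Cfsg.largestPReducedOf p M)).map φ.toMonoidHom, a * a = 1) ∨
    (p = 2 ∧ Nat.card (flE p L (Cfsg.largestPReducedOf p M)) = 2) := by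
  have C := FLCtx.of_isInFrakL hL
  have hcardE := flk_card_flE (p := p) C.hYL
  have hEp := flk_isPGroup_flE (p := p) (L := L) C.hYp
  obtain ⟨-, -, -, -, -, -, hcase⟩ := hL
  rcases hcase with ⟨F, iF, iFt, hcard, ⟨φ⟩⟩ | ⟨hp2, F, iF, iFt, m, hc1, hc2, ⟨φ⟩⟩ | ⟨hp2, r, hr, hr2, ⟨φ⟩⟩
  · left
    have hmap : Nat.card ((flE p L (Cfsg.largestPReducedOf p M)).map φ.toMonoidHom) = Fintype.card F := by
      rw [Subgroup.card_map_of_injective φ.injective, hcardE, hcard]
    obtain ⟨k, hk⟩ := hEp.exists_card_eq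
    have hFk : Fintype.card F = p ^ k := by rw [hcard, ← hcardE, hk]
    exact ⟨F, iF, iFt, flk_charP_of_card hp.out hFk, φ, hmap⟩
  · by_cases hm : m = 0
    · right; right
      refine ⟨hp2, ?_⟩
      rw [hcardE, ← hc2, hc1, hm]
      norm_num
    · right; left
      refine ⟨hp2, F, iF, iFt, m, φ, Nat.one_le_iff_ne_zero.mpr hm, hc1, ?_, ?_⟩
      · rw [Subgroup.card_map_of_injective φ.injective, hcardE, hc2]
      · rintro _ ⟨e, he, rfl⟩
        obtain ⟨y, hy, rfl⟩ := fll_mem_flE.mp he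
        have hexp := (flk_Y_props p M).2.1 _ hy
        have h1 : y * y = 1 := by
          apply Subtype.ext
          push_cast
          rw [hp2, pow_two] at hexp
          exact hexp
        show φ (flRho p L y) * φ (flRho p L y) = 1
        rw [← map_mul, ← map_mul, h1, map_one, map_one]
  · right; right
    refine ⟨hp2, ?_⟩
    obtain ⟨k, hk⟩ := hEp.exists_card_eq
    have hne : Nat.card (flE p L (Cfsg.largestPReducedOf p M)) ≠ 1 := by
      intro h1
      exact C.flE_ne_bot (Subgroup.card_eq_one.mp h1)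
    have hcardL : Nat.card (↥L ⧸ Cfsg.pCore p ↥L) = 2 * r := by
      rw [Nat.card_congr φ.toEquiv, DihedralGroup.nat_card]
    have hdvd : Nat.card (flE p L (Cfsg.largestPReducedOf p M)) ∣ 2 * r := by
      rw [← hcardL]; exact Subgroup.card_subgroup_dvd_card _
    rw [hk, hp2] at hdvd
    rw [hk, hp2] at hne ⊢
    have hk1 : k ≤ 1 := by
      by_contra hk2
      push Not at hk2
      have h4 : 2 ^ 2 ∣ 2 * r := (pow_dvd_pow 2 hk2).trans hdvd
      have h2r : 2 ∣ r := by
        have : 2 * 2 ∣ 2 * r := by simpa using h4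
        exact (Nat.mul_dvd_mul_iff_left (by norm_num)).mp this
      exact hr2 ((Nat.prime_dvd_prime_iff_eq Nat.prime_two hr).mp h2r).symm
    interval_cases k
    · simp at hne
    · simp

end Cfsg.Agent.FrakL
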