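import Cfsg.Agent.FrakL.Iso

/-!
# 𝔏_G(Y_M) lemmas: conjugation invariance of `FLGood`, `FLFree`, `FLUniq` in the subgroup argument
-/

set_option autoImplicit false

namespace Cfsg.Agent.FrakL

section Conj

variable {Γ : Type*} [Group Γ]

theorem flConj_flConj (E : Subgroup Γ) (a b : Γ) : flConj (flConj E a) b = flConj E (b * a) := by
  ext y
  constructor
  · rintro ⟨u, ⟨e, he, rfl⟩, rfl⟩
    exact ⟨e, he, by simp [MulAut.conj_apply, mul_assoc]⟩
  · rintro ⟨e, he, rfl⟩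
    exact ⟨a * e * a⁻¹, ⟨e, he, by simp [MulAut.conj_apply]⟩, by simp [MulAut.conj_apply, mul_assoc]⟩

theorem flc_mem_flConj_iff (E : Subgroup Γ) (c y : Γ) : y ∈ flConj E c ↔ c⁻¹ * y * c ∈ E := by
  constructor
  · rintro ⟨e, he, rfl⟩
    have : c⁻¹ * (MulAut.conj c).toMonoidHom e * c = e := by simp [MulAut.conj_apply, mul_assoc]
    rw [this]; exact he
  · intro h
    exact ⟨c⁻¹ * y * c, h, by simp [MulAut.conj_apply, mul_assoc]⟩

theorem FLGood.conj {E : Subgroup Γ} {x : Γ} (h : FLGood E x) (c : Γ) : FLGood (flConj E c) x := by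
  obtain ⟨c₁, c₂, u₁, u₂, h1, h2, hx, hn1, hn2⟩ := h
  refine ⟨c₁ * c⁻¹, c₂ * c⁻¹, u₁, u₂, ?_, ?_, hx, ?_, ?_⟩
  · rw [flConj_flConj, inv_mul_cancel_right]; exact h1
  · rw [flConj_flConj, inv_mul_cancel_right]; exact h2
  · rw [flConj_flConj, inv_mul_cancel_right]; exact hn1
  · rw [flConj_flConj, inv_mul_cancel_right]; exact hn2

theorem FLFree.conj {p : ℕ} {E : Subgroup Γ} {x : Γ} (h : FLFree p E x) (c : Γ) :
    FLFree p (flConj E c) x := by
  rcases h with h | ⟨hp, n₁, n₂, h1, h2, h3, g1, g2, g3⟩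
  · exact Or.inl (h.conj c)
  · exact Or.inr ⟨hp, n₁, n₂, h1, h2, h3, g1.conj c, g2.conj c, g3.conj c⟩

theorem FLUniq.conj {p : ℕ} {E : Subgroup Γ} (h : FLUniq p E) (c : Γ) : FLUniq p (flConj E c) :=
  h.map_equiv (MulAut.conj c)

/-- `g` normalizes `E^c` iff `c⁻¹ g c` normalizes `E`. -/
theorem flc_mem_normalizer_flConj_iff (E : Subgroup Γ) (c g : Γ) :
    g ∈ Subgroup.normalizer ((flConj E c : Subgroup Γ) : Set Γ) ↔
      c⁻¹ * g * c ∈ Subgroup.normalizer ((E : Subgroup Γ) : Set Γ) := by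
  have h := fli_mem_normalizer_iff (MulAut.conj c) E (c⁻¹ * g * c)
  have e : (MulAut.conj c) (c⁻¹ * g * c) = g := by simp [MulAut.conj_apply, mul_assoc]
  rw [e] at h
  exact h

end Conj

end Cfsg.Agent.FrakL
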