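import Cfsg.Agent.FrakL.Lift
import Cfsg.Agent.Helper5.PReduced
import Cfsg.Agent.Helper5.CharP2

/-!
# 𝔏_G(Y_M) lemmas: the context extracted from `IsInFrakL` (helper5)
-/

set_option autoImplicit false

namespace Cfsg.Agent.FrakL

open Cfsg.Agent.Helper5

variable {G : Type*} [Group G]

theorem flk_normal_subgroupOf {L N : Subgroup G} (h : L ≤ Subgroup.normalizer (N : Set G)) :
    (N.subgroupOf L).Normal := by
  constructor
  intro n hn l
  rw [Subgroup.mem_subgroupOf] at hn ⊢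
  push_cast
  exact flb_conj_mem_of_le_normalizer h l.2 hn

theorem flk_pCoreOf_eq (p : ℕ) (L : Subgroup G) :
    Cfsg.pCoreOf p L = (Cfsg.pCore p ↥L).map L.subtype := rfl

theorem flk_pCoreOf_subgroupOf (p : ℕ) (L : Subgroup G) :
    (Cfsg.pCoreOf p L).subgroupOf L = Cfsg.pCore p ↥L := by
  rw [flk_pCoreOf_eq]
  exact Subgroup.comap_map_eq_self_of_injective (Subgroup.subtype_injective L) _

/-- `Y_M` is abelian of exponent `p`, a `p`-group. -/
theorem flk_Y_props [Finite G] (p : ℕ) [Fact p.Prime] (M : Subgroup G) :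
    (∀ a ∈ Cfsg.largestPReducedOf p M, ∀ b ∈ Cfsg.largestPReducedOf p M, a * b = b * a) ∧
    (∀ a ∈ Cfsg.largestPReducedOf p M, a ^ p = 1) ∧ IsPGroup p ↥(Cfsg.largestPReducedOf p M) := by
  have hP := pRed_largestPReduced (L := ↥M) p
  obtain ⟨-, ⟨hcomm, hexp⟩, -⟩ := hP
  refine ⟨?_, ?_, (pRed_largestPReduced (L := ↥M) p).isPGroup.map _⟩
  · rintro _ ⟨a, ha, rfl⟩ _ ⟨b, hb, rfl⟩
    have := hcomm.is_comm.comm (⟨a, ha⟩ : ↥(Cfsg.largestPReduced p ↥M)) ⟨b, hb⟩
    have h2 := congrArg (fun t : ↥(Cfsg.largestPReduced p ↥M) => ((t : ↥M) : G)) this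
    simpa using h2
  · rintro _ ⟨a, ha, rfl⟩
    have := hexp a ha
    have h2 := congrArg (fun t : ↥M => (t : G)) this
    simpa using h2

theorem FLCtx.of_isInFrakL [Finite G] {p : ℕ} [Fact p.Prime] {M L : Subgroup G} (hL : Cfsg.IsInFrakL p M L) :
    FLCtx p L (Cfsg.largestPReducedOf p M) (Cfsg.pCoreOf p L) := by
  obtain ⟨hYL, hAcl, hAY, ⟨hYcl, -⟩, -, ⟨hNL, hmax⟩, -⟩ := hL
  obtain ⟨hYab, -, hYp⟩ := flk_Y_props p M
  refine
    { hYL := hYL, hAL := pCore_map_subtype_le p L, hAn := le_normalizer_pCore_map_subtype p L, hAY := hAY,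
      hYab := hYab, hAcl := ?_, hYcl := ?_, hmax := ?_, hNL := ?_, hZA := ?_,
      hAp := isPGroup_pCore_map_subtype p L, hYp := hYp }
  · intro N hN hLN x hx
    rw [hAcl] at hx
    obtain ⟨y, hy, rfl⟩ := hx
    haveI := flk_normal_subgroupOf hLN
    have hle : Subgroup.normalClosure
        (((Cfsg.largestPReducedOf p M ⊓ Cfsg.pCoreOf p L).subgroupOf L : Subgroup ↥L) : Set ↥L) ≤ N.subgroupOf L := by
      apply Subgroup.normalClosure_le_normal
      intro z hz
      exact Subgroup.mem_subgroupOf.mpr (hN (Subgroup.mem_subgroupOf.mp hz))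
    exact Subgroup.mem_subgroupOf.mp (hle hy)
  · intro N hN hLN l hl
    haveI := flk_normal_subgroupOf hLN
    have hle : Subgroup.normalClosure
        (((Cfsg.largestPReducedOf p M).subgroupOf L : Subgroup ↥L) : Set ↥L) ≤ N.subgroupOf L := by
      apply Subgroup.normalClosure_le_normal
      intro z hz
      exact Subgroup.mem_subgroupOf.mpr (hN (Subgroup.mem_subgroupOf.mp hz))
    rw [hYcl] at hle
    exact Subgroup.mem_subgroupOf.mp (hle (Subgroup.mem_top (⟨l, hl⟩ : ↥L)))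
  · intro X hYX hXL
    exact (hmax X hYX hXL).trans inf_le_right
  · intro hcon
    have : L ⊓ Subgroup.normalizer (Cfsg.largestPReducedOf p M : Set G) = L := inf_eq_left.mpr hcon
    rw [this] at hNL
    exact lt_irrefl _ hNL
  · intro x hx
    have hxL : x ∈ L := hYL (Subgroup.mem_inf.mp hx).1
    have hp : IsPGroup p ↥(flZ L (Cfsg.largestPReducedOf p M)) := by
      have h1 : IsPGroup p ↥(Cfsg.largestPReducedOf p M ⊓ Subgroup.centralizer (L : Set G)) :=
        hYp.to_le inf_le_left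
      exact h1.comap_of_injective L.subtype (Subgroup.subtype_injective L)
    have hle := le_pCore (flZ_normal L (Cfsg.largestPReducedOf p M)) hp
    exact ⟨⟨x, hxL⟩, hle (Subgroup.mem_subgroupOf.mpr hx), rfl⟩

end Cfsg.Agent.FrakL
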