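import Cfsg.Agent.FrakL.Defs

/-!
# 𝔏_G(Y_M) lemmas: transport of `FLGood`, `FLFree`, `FLUniq` along a group isomorphism
-/

set_option autoImplicit false

namespace Cfsg.Agent.FrakL

variable {Γ Γ' : Type*} [Group Γ] [Group Γ']

theorem fli_mem_map_iff (φ : Γ ≃* Γ') (X : Subgroup Γ) (u : Γ) :
    φ u ∈ X.map φ.toMonoidHom ↔ u ∈ X := by
  constructor
  · rintro ⟨v, hv, hvu⟩
    have : v = u := φ.injective hvu
    rw [← this]; exact hv
  · intro hu
    exact ⟨u, hu, rfl⟩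

theorem fli_map_flConj (φ : Γ ≃* Γ') (E : Subgroup Γ) (c : Γ) :
    (flConj E c).map φ.toMonoidHom = flConj (E.map φ.toMonoidHom) (φ c) := by
  ext y
  constructor
  · rintro ⟨u, ⟨e, he, rfl⟩, rfl⟩
    refine ⟨φ e, ⟨e, he, rfl⟩, ?_⟩
    simp [MulAut.conj_apply]
  · rintro ⟨e', ⟨e, he, rfl⟩, rfl⟩
    refine ⟨c * e * c⁻¹, ⟨e, he, ?_⟩, ?_⟩
    · simp [MulAut.conj_apply]
    · simp [MulAut.conj_apply]

theorem fli_mem_normalizer_iff (φ : Γ ≃* Γ') (X : Subgroup Γ) (u : Γ) :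
    φ u ∈ Subgroup.normalizer ((X.map φ.toMonoidHom : Subgroup Γ') : Set Γ') ↔
      u ∈ Subgroup.normalizer ((X : Subgroup Γ) : Set Γ) := by
  rw [Subgroup.mem_normalizer_iff, Subgroup.mem_normalizer_iff]
  constructor
  · intro h v
    have h1 := h (φ v)
    have e1 : φ u * φ v * (φ u)⁻¹ = φ (u * v * u⁻¹) := by simp
    rw [e1] at h1
    rw [fli_mem_map_iff, fli_mem_map_iff] at h1
    exact h1
  · intro h v'
    obtain ⟨v, rfl⟩ := φ.surjective v'
    have h1 := h v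
    have e1 : φ u * φ v * (φ u)⁻¹ = φ (u * v * u⁻¹) := by simp
    rw [e1]
    rw [fli_mem_map_iff, fli_mem_map_iff]
    exact h1

theorem FLGood.map_equiv (φ : Γ ≃* Γ') {E : Subgroup Γ} {x : Γ} (h : FLGood E x) :
    FLGood (E.map φ.toMonoidHom) (φ x) := by
  obtain ⟨c₁, c₂, u₁, u₂, h1, h2, hx, hn1, hn2⟩ := h
  refine ⟨φ c₁, φ c₂, φ u₁, φ u₂, ?_, ?_, ?_, ?_, ?_⟩
  · rw [← fli_map_flConj, fli_mem_map_iff]; exact h1
  · rw [← fli_map_flConj, fli_mem_map_iff]; exact h2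
  · rw [hx, map_mul]
  · rw [← fli_map_flConj, fli_mem_normalizer_iff]; exact hn1
  · rw [← fli_map_flConj, fli_mem_normalizer_iff]; exact hn2

theorem FLFree.map_equiv (φ : Γ ≃* Γ') {p : ℕ} {E : Subgroup Γ} {x : Γ} (h : FLFree p E x) :
    FLFree p (E.map φ.toMonoidHom) (φ x) := by
  rcases h with h | ⟨hp, n₁, n₂, h1, h2, h3, g1, g2, g3⟩
  · exact Or.inl (h.map_equiv φ)
  · refine Or.inr ⟨hp, φ n₁, φ n₂, ?_, ?_, ?_, g1.map_equiv φ, g2.map_equiv φ, ?_⟩
    · rw [← map_mul, h1]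
    · rw [← map_mul, h2]
    · rw [← map_mul, ← map_mul, h3]
    · rw [← map_mul]; exact g3.map_equiv φ

theorem FLUniq.map_equiv (φ : Γ ≃* Γ') {p : ℕ} {E : Subgroup Γ} (h : FLUniq p E) :
    FLUniq p (E.map φ.toMonoidHom) := by
  intro N' hEN hNn hmax V' hVN hNV hVab hVp hV1
  -- pull everything back along `φ`
  have hcm : ∀ X' : Subgroup Γ', (X'.comap φ.toMonoidHom).map φ.toMonoidHom = X' := by
    intro X'
    exact Subgroup.map_comap_eq_self_of_surjective φ.surjective X'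
  have key := h (N'.comap φ.toMonoidHom) ?_ ?_ ?_ (V'.comap φ.toMonoidHom) ?_ ?_ ?_ ?_ ?_
  · rw [← key, hcm]
  · intro e he
    exact hEN ⟨e, he, rfl⟩
  · intro n hn
    have h1 : φ n ∈ Subgroup.normalizer ((E.map φ.toMonoidHom : Subgroup Γ') : Set Γ') := hNn hn
    exact (fli_mem_normalizer_iff φ E n).1 h1
  · intro X hEX hXtop x hx
    have h1 : X.map φ.toMonoidHom ≤ N' := by
      apply hmax
      · exact Subgroup.map_mono hEX
      · intro htop
        apply hXtop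
        rw [eq_top_iff]
        intro y _
        have : φ y ∈ X.map φ.toMonoidHom := by rw [htop]; exact Subgroup.mem_top _
        exact (fli_mem_map_iff φ X y).1 this
    exact h1 ⟨x, hx, rfl⟩
  · intro v hv
    exact hVN hv
  · intro n hn
    have h1 : φ n ∈ Subgroup.normalizer ((V' : Subgroup Γ') : Set Γ') := hNV hn
    rw [← hcm V'] at h1
    exact (fli_mem_normalizer_iff φ _ n).1 h1
  · intro a ha b hb
    apply φ.injective
    rw [map_mul, map_mul]
    exact hVab _ ha _ hb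
  · intro a ha
    apply φ.injective
    rw [map_pow, map_one]
    exact hVp _ ha
  · intro hbot
    apply hV1
    rw [← hcm V', hbot, Subgroup.map_bot]

end Cfsg.Agent.FrakL
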