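import Cfsg.Agent.FrakL.Basic
import Cfsg.Agent.FrakL.Iso

/-!
# 𝔏_G(Y_M) lemmas: conjugation invariance of `FLCtx`, and the key lemma for two conjugates (helper5)
-/

set_option autoImplicit false

namespace Cfsg.Agent.FrakL

variable {G : Type*} [Group G]

theorem flx_mem_flConj {E : Subgroup G} {c x : G} : x ∈ flConj E c ↔ c⁻¹ * x * c ∈ E := by
  constructor
  · rintro ⟨y, hy, rfl⟩
    show c⁻¹ * (c * y * c⁻¹) * c ∈ E
    have : c⁻¹ * (c * y * c⁻¹) * c = y := by group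
    rw [this]; exact hy
  · intro h
    refine ⟨c⁻¹ * x * c, h, ?_⟩
    show c * (c⁻¹ * x * c) * c⁻¹ = x
    group

theorem flx_conj_mem_flConj {E : Subgroup G} {c y : G} (hy : y ∈ E) : c * y * c⁻¹ ∈ flConj E c :=
  ⟨y, hy, rfl⟩

/-- `x` normalizes `c E c⁻¹` iff `c⁻¹ x c` normalizes `E`. -/
theorem flx_mem_normalizer_flConj {E : Subgroup G} {c x : G} :
    x ∈ Subgroup.normalizer ((flConj E c : Subgroup G) : Set G) ↔
      c⁻¹ * x * c ∈ Subgroup.normalizer (E : Set G) := by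
  have h := fli_mem_normalizer_iff (MulAut.conj c) E (c⁻¹ * x * c)
  have e : (MulAut.conj c) (c⁻¹ * x * c) = x := by
    show c * (c⁻¹ * x * c) * c⁻¹ = x
    group
  rw [e] at h
  exact h

namespace FLCtx

variable {p : ℕ} {L Y A : Subgroup G}

theorem conj (C : FLCtx p L Y A) {g : G} (hg : g ∈ L) : FLCtx p L (flConj Y g) A := by
  have hgi : g⁻¹ ∈ L := L.inv_mem hg
  refine
    { hYL := ?_, hAL := C.hAL, hAn := C.hAn, hAY := ?_, hYab := ?_, hAcl := ?_, hYcl := ?_,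
      hmax := ?_, hNL := ?_, hZA := ?_, hAp := C.hAp, hYp := ?_ }
  · intro x hx
    have h1 := C.hYL (flx_mem_flConj.mp hx)
    have : x = g * (g⁻¹ * x * g) * g⁻¹ := by group
    rw [this]
    exact L.mul_mem (L.mul_mem hg h1) hgi
  · intro a ha
    rw [flx_mem_normalizer_flConj]
    exact C.hAY (flb_conj_mem_of_le_normalizer' C.hAn hg ha)
  · intro a ha b hb
    have h := C.hYab _ (flx_mem_flConj.mp ha) _ (flx_mem_flConj.mp hb)
    have e1 : a * b = g * ((g⁻¹ * a * g) * (g⁻¹ * b * g)) * g⁻¹ := by group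
    have e2 : b * a = g * ((g⁻¹ * b * g) * (g⁻¹ * a * g)) * g⁻¹ := by group
    rw [e1, e2, h]
  · intro N hN hLN
    apply C.hAcl N _ hLN
    intro x hx
    obtain ⟨hxY, hxA⟩ := Subgroup.mem_inf.mp hx
    have h1 : g * x * g⁻¹ ∈ N :=
      hN (Subgroup.mem_inf.mpr ⟨flx_conj_mem_flConj hxY, flb_conj_mem_of_le_normalizer C.hAn hg hxA⟩)
    have := flb_conj_mem_of_le_normalizer' hLN hg h1
    have e : g⁻¹ * (g * x * g⁻¹) * g = x := by group
    rwa [e] at this
  · intro N hN hLN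
    apply C.hYcl N _ hLN
    intro y hy
    have h1 : g * y * g⁻¹ ∈ N := hN (flx_conj_mem_flConj hy)
    have := flb_conj_mem_of_le_normalizer' hLN hg h1
    have e : g⁻¹ * (g * y * g⁻¹) * g = y := by group
    rwa [e] at this
  · intro X hYX hXL x hx
    rw [flx_mem_normalizer_flConj]
    -- X' = g⁻¹ X g
    have hle : flConj X g⁻¹ ≤ L := by
      intro z hz
      have h1 := hXL.le (flx_mem_flConj.mp hz)
      rw [inv_inv] at h1
      have : z = g⁻¹ * (g * z * g⁻¹) * g := by group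
      rw [this]
      exact L.mul_mem (L.mul_mem hgi h1) hg
    have hlt : flConj X g⁻¹ < L := by
      rw [SetLike.lt_iff_le_and_exists]
      refine ⟨hle, ?_⟩
      obtain ⟨l, hlL, hlX⟩ := (SetLike.lt_iff_le_and_exists.mp hXL).2
      refine ⟨g⁻¹ * l * g, L.mul_mem (L.mul_mem hgi hlL) hg, fun hc => hlX ?_⟩
      have := flx_mem_flConj.mp hc
      rw [inv_inv] at this
      have e : g * (g⁻¹ * l * g) * g⁻¹ = l := by group
      rwa [e] at this
    have hY' : Y ≤ flConj X g⁻¹ := by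
      intro y hy
      rw [flx_mem_flConj, inv_inv]
      exact hYX (flx_conj_mem_flConj hy)
    apply C.hmax _ hY' hlt
    rw [flx_mem_flConj, inv_inv]
    have e : g * (g⁻¹ * x * g) * g⁻¹ = x := by group
    rw [e]; exact hx
  · intro hcon
    apply C.hNL
    intro l hl
    have h1 : g * l * g⁻¹ ∈ L := L.mul_mem (L.mul_mem hg hl) hgi
    have := flx_mem_normalizer_flConj.mp (hcon h1)
    have e : g⁻¹ * (g * l * g⁻¹) * g = l := by group
    rwa [e] at this
  · intro x hx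
    obtain ⟨hxY, hxC⟩ := Subgroup.mem_inf.mp hx
    apply C.hZA
    refine Subgroup.mem_inf.mpr ⟨?_, hxC⟩
    have h1 := flx_mem_flConj.mp hxY
    have hcomm : g * x = x * g := Subgroup.mem_centralizer_iff.mp hxC g hg
    have e : g⁻¹ * x * g = x := by
      rw [mul_assoc, ← hcomm]; group
    rwa [e] at h1
  · exact C.hYp.map _

theorem Z_conj (_C : FLCtx p L Y A) {g : G} (hg : g ∈ L) :
    flConj Y g ⊓ Subgroup.centralizer (L : Set G) = Y ⊓ Subgroup.centralizer (L : Set G) := by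
  ext x
  simp only [Subgroup.mem_inf]
  constructor
  · rintro ⟨hxY, hxC⟩
    refine ⟨?_, hxC⟩
    have h1 := flx_mem_flConj.mp hxY
    have hcomm : g * x = x * g := Subgroup.mem_centralizer_iff.mp hxC g hg
    have e : g⁻¹ * x * g = x := by
      rw [mul_assoc, ← hcomm]; group
    rwa [e] at h1
  · rintro ⟨hxY, hxC⟩
    refine ⟨?_, hxC⟩
    rw [flx_mem_flConj]
    have hcomm : g * x = x * g := Subgroup.mem_centralizer_iff.mp hxC g hg
    have e : g⁻¹ * x * g = x := by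
      rw [mul_assoc, ← hcomm]; group
    rwa [e]

/-- (L4) for two conjugates of `Y`. -/
theorem fixed_of_decomp (C : FLCtx p L Y A) {g₁ g₂ y₁ y₂ a₀ : G}
    (hg₁ : g₁ ∈ L) (hg₂ : g₂ ∈ L) (hy₁ : y₁ ∈ flConj Y g₁) (hy₂ : y₂ ∈ flConj Y g₂) (ha₀ : a₀ ∈ A)
    (h1 : y₁ ∉ Subgroup.normalizer ((flConj Y g₂ : Subgroup G) : Set G))
    (h2 : y₂ ∉ Subgroup.normalizer ((flConj Y g₁ : Subgroup G) : Set G)) :
    ∀ a ∈ A, (y₁ * y₂ * a₀) * a * (y₁ * y₂ * a₀)⁻¹ * a⁻¹ ∈ Y ⊓ Subgroup.centralizer (L : Set G) →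
      a ∈ Y ⊓ Subgroup.centralizer (L : Set G) := by
  intro a ha hfix
  have hZ : flConj Y g₁ ⊓ Subgroup.centralizer (L : Set G) =
      flConj Y g₂ ⊓ Subgroup.centralizer (L : Set G) := by
    rw [C.Z_conj hg₁, C.Z_conj hg₂]
  rw [← C.Z_conj hg₁] at hfix ⊢
  exact flb_fixed_of_pair (C.conj hg₁) (C.conj hg₂) hZ hy₁ hy₂ ha₀ h1 h2 a ha hfix

end FLCtx

end Cfsg.Agent.FrakL
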