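import Mathlib
import Cfsg.Prelude.Def_LocalStructure

/-!
# 𝔏_G(Y_M) lemmas (S2861, S2863): common definitions

`FLGood E x`: `x` is a product `u₁ * u₂` of elements of two conjugates of `E`, neither of which normalizes
the other conjugate.  `FLFree p E x`: `x` is good, or (`p` odd) `x` is the common square of a quaternion
triple of good elements.  `FLUniq p E`: `E` is the only nontrivial normal elementary abelian `p`-subgroup
of a subgroup `N` with `E ≤ N ≤ N(E)` containing every proper overgroup of `E`.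
`FLCtx p L Y A`: the part of `IsInFrakL` used by the abstract arguments.
-/

set_option autoImplicit false

namespace Cfsg.Agent.FrakL

/-- The conjugate `c E c⁻¹`. -/
abbrev flConj {Γ : Type*} [Group Γ] (E : Subgroup Γ) (c : Γ) : Subgroup Γ :=
  E.map (MulAut.conj c).toMonoidHom

/-- `x = u₁ * u₂` with `uᵢ` in the conjugate `E^{cᵢ}`, `u₁ ∉ N(E^{c₂})`, `u₂ ∉ N(E^{c₁})`. -/
def FLGood {Γ : Type*} [Group Γ] (E : Subgroup Γ) (x : Γ) : Prop :=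
  ∃ c₁ c₂ u₁ u₂ : Γ, u₁ ∈ flConj E c₁ ∧ u₂ ∈ flConj E c₂ ∧ x = u₁ * u₂ ∧
    u₁ ∉ Subgroup.normalizer ((flConj E c₂ : Subgroup Γ) : Set Γ) ∧
    u₂ ∉ Subgroup.normalizer ((flConj E c₁ : Subgroup Γ) : Set Γ)

/-- `x` is good, or `p ≠ 2` and `x = n₁² = n₂² = (n₁ n₂)²` with `n₁`, `n₂`, `n₁ n₂` good. -/
def FLFree {Γ : Type*} [Group Γ] (p : ℕ) (E : Subgroup Γ) (x : Γ) : Prop :=
  FLGood E x ∨ (p ≠ 2 ∧ ∃ n₁ n₂ : Γ, n₁ * n₁ = x ∧ n₂ * n₂ = x ∧ (n₁ * n₂) * (n₁ * n₂) = x ∧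
    FLGood E n₁ ∧ FLGood E n₂ ∧ FLGood E (n₁ * n₂))

/-- `E` is the unique nontrivial normal elementary abelian `p`-subgroup of every `N` with `E ≤ N ≤ N(E)`
that contains all proper overgroups of `E`. -/
def FLUniq {Γ : Type*} [Group Γ] (p : ℕ) (E : Subgroup Γ) : Prop :=
  ∀ N : Subgroup Γ, E ≤ N → N ≤ Subgroup.normalizer (E : Set Γ) →
    (∀ X : Subgroup Γ, E ≤ X → X ≠ ⊤ → X ≤ N) →
    ∀ V : Subgroup Γ, V ≤ N → N ≤ Subgroup.normalizer (V : Set Γ) →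
      (∀ a ∈ V, ∀ b ∈ V, a * b = b * a) → (∀ a ∈ V, a ^ p = 1) → V ≠ ⊥ → V = E

/-- The part of `IsInFrakL p M L` (with `Y = Y_M`, `A = O_p(L)`) used by the abstract arguments. -/
structure FLCtx {G : Type*} [Group G] (p : ℕ) (L Y A : Subgroup G) : Prop where
  hYL : Y ≤ L
  hAL : A ≤ L
  hAn : L ≤ Subgroup.normalizer (A : Set G)
  hAY : A ≤ Subgroup.normalizer (Y : Set G)
  hYab : ∀ a ∈ Y, ∀ b ∈ Y, a * b = b * a
  hAcl : ∀ N : Subgroup G, Y ⊓ A ≤ N → L ≤ Subgroup.normalizer (N : Set G) → A ≤ N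
  hYcl : ∀ N : Subgroup G, Y ≤ N → L ≤ Subgroup.normalizer (N : Set G) → L ≤ N
  hmax : ∀ X : Subgroup G, Y ≤ X → X < L → X ≤ Subgroup.normalizer (Y : Set G)
  hNL : ¬ L ≤ Subgroup.normalizer (Y : Set G)
  hZA : Y ⊓ Subgroup.centralizer (L : Set G) ≤ A
  hAp : IsPGroup p A
  hYp : IsPGroup p Y

end Cfsg.Agent.FrakL
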