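import Cfsg.Agent.FrakL.Quat

/-!
# 𝔏_G(Y_M) lemmas: lifting goodness from `L / O_p(L)` and the final abstract statement (helper5)
-/

set_option autoImplicit false

namespace Cfsg.Agent.FrakL

variable {G : Type*} [Group G]

/-- the projection `L → L / O_p(L)`. -/
def flRho (p : ℕ) (L : Subgroup G) : ↥L →* ↥L ⧸ Cfsg.pCore p ↥L := QuotientGroup.mk' (Cfsg.pCore p ↥L)

/-- the image `Ē` of `Y` in `L / O_p(L)`. -/
abbrev flE (p : ℕ) (L Y : Subgroup G) : Subgroup (↥L ⧸ Cfsg.pCore p ↥L) :=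
  (Y.subgroupOf L).map (QuotientGroup.mk' (Cfsg.pCore p ↥L))

theorem fll_rho_surjective (p : ℕ) (L : Subgroup G) : Function.Surjective (flRho p L) :=
  QuotientGroup.mk'_surjective _

theorem fll_rho_eq_one_iff {p : ℕ} {L : Subgroup G} (x : ↥L) :
    flRho p L x = 1 ↔ (x : G) ∈ Cfsg.pCoreOf p L := by
  unfold flRho Cfsg.pCoreOf
  rw [QuotientGroup.mk'_apply, QuotientGroup.eq_one_iff]
  constructor
  · intro h
    exact ⟨x, h, rfl⟩
  · rintro ⟨y, hy, hxy⟩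
    have : y = x := Subtype.ext hxy
    rwa [← this]

theorem fll_mem_flE {p : ℕ} {L Y : Subgroup G} {x : ↥L ⧸ Cfsg.pCore p ↥L} :
    x ∈ flE p L Y ↔ ∃ y : ↥L, (y : G) ∈ Y ∧ flRho p L y = x := by
  constructor
  · rintro ⟨y, hy, rfl⟩
    exact ⟨y, Subgroup.mem_subgroupOf.mp hy, rfl⟩
  · rintro ⟨y, hy, rfl⟩
    exact ⟨y, Subgroup.mem_subgroupOf.mpr hy, rfl⟩

/-- (R2) -/
theorem fll_mem_flConj_flE {p : ℕ} {L Y : Subgroup G} (g : ↥L) {x : ↥L ⧸ Cfsg.pCore p ↥L} :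
    x ∈ flConj (flE p L Y) (flRho p L g) ↔ ∃ n : ↥L, (n : G) ∈ flConj Y (g : G) ∧ flRho p L n = x := by
  rw [flx_mem_flConj, fll_mem_flE]
  constructor
  · rintro ⟨y, hy, hyx⟩
    refine ⟨g * y * g⁻¹, ?_, ?_⟩
    · push_cast
      exact flx_conj_mem_flConj hy
    · rw [map_mul, map_mul, map_inv, hyx]; group
  · rintro ⟨n, hn, rfl⟩
    refine ⟨g⁻¹ * n * g, ?_, ?_⟩
    · push_cast
      exact flx_mem_flConj.mp hn
    · rw [map_mul, map_mul, map_inv]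

theorem fll_mem_normalizer_of {Γ : Type*} [Group Γ] {X : Subgroup Γ} {x : Γ}
    (h1 : ∀ n ∈ X, x * n * x⁻¹ ∈ X) (h2 : ∀ n ∈ X, x⁻¹ * n * x ∈ X) :
    x ∈ Subgroup.normalizer (X : Set Γ) := by
  rw [Subgroup.mem_normalizer_iff]
  intro n
  refine ⟨h1 n, fun hn => ?_⟩
  have := h2 _ hn
  have e : x⁻¹ * (x * n * x⁻¹) * x = n := by group
  rwa [e] at this

/-- (R3) -/
theorem fll_rho_mem_normalizer {p : ℕ} {L Y : Subgroup G} (g y : ↥L)
    (hy : (y : G) ∈ Subgroup.normalizer ((flConj Y (g : G) : Subgroup G) : Set G)) :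
    flRho p L y ∈ Subgroup.normalizer ((flConj (flE p L Y) (flRho p L g) : Subgroup _) : Set _) := by
  have hyi : ((y : G))⁻¹ ∈ Subgroup.normalizer ((flConj Y (g : G) : Subgroup G) : Set G) :=
    Subgroup.inv_mem _ hy
  apply fll_mem_normalizer_of
  · intro n hn
    obtain ⟨m, hm, rfl⟩ := (fll_mem_flConj_flE g).mp hn
    refine (fll_mem_flConj_flE g).mpr ⟨y * m * y⁻¹, ?_, by rw [map_mul, map_mul, map_inv]⟩
    push_cast
    exact (Subgroup.mem_normalizer_iff.mp hy _).mp hm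
  · intro n hn
    obtain ⟨m, hm, rfl⟩ := (fll_mem_flConj_flE g).mp hn
    refine (fll_mem_flConj_flE g).mpr ⟨y⁻¹ * m * y, ?_, by rw [map_mul, map_mul, map_inv]⟩
    push_cast
    have := (Subgroup.mem_normalizer_iff.mp hyi _).mp hm
    rwa [inv_inv] at this

namespace FLCtx

variable {p : ℕ} {L Y : Subgroup G}

theorem goodG_of_flGood (_C : FLCtx p L Y (Cfsg.pCoreOf p L)) (h : ↥L)
    (hg : FLGood (flE p L Y) (flRho p L h)) : FLGoodG L Y (Cfsg.pCoreOf p L) (h : G) := by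
  obtain ⟨c₁, c₂, u₁, u₂, hu₁, hu₂, hx, hn1, hn2⟩ := hg
  obtain ⟨g₁, rfl⟩ := fll_rho_surjective p L c₁
  obtain ⟨g₂, rfl⟩ := fll_rho_surjective p L c₂
  obtain ⟨n₁, hn₁, rfl⟩ := (fll_mem_flConj_flE g₁).mp hu₁
  obtain ⟨n₂, hn₂, rfl⟩ := (fll_mem_flConj_flE g₂).mp hu₂
  have ha₀ : (((n₁ * n₂)⁻¹ * h : ↥L) : G) ∈ Cfsg.pCoreOf p L := by
    rw [← fll_rho_eq_one_iff, map_mul, map_inv, map_mul, hx]
    group
  refine ⟨g₁, g₂, n₁, n₂, (((n₁ * n₂)⁻¹ * h : ↥L) : G), g₁.2, g₂.2, hn₁, hn₂, ha₀, ?_, ?_, ?_⟩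
  · push_cast
    group
  · exact fun hc => hn1 (fll_rho_mem_normalizer g₂ n₁ hc)
  · exact fun hc => hn2 (fll_rho_mem_normalizer g₁ n₂ hc)

/-- The abstract form of S2863: `FLFree` in `L / O_p(L)` forces fixed-point-freeness on `A / Z₀`. -/
theorem fixed_of_flFree [hp : Fact p.Prime] (C : FLCtx p L Y (Cfsg.pCoreOf p L)) {h : G} (hh : h ∈ L)
    (hfree : FLFree p (flE p L Y) (QuotientGroup.mk' (Cfsg.pCore p ↥L) ⟨h, hh⟩)) :
    ∀ a ∈ Cfsg.pCoreOf p L, h * a * h⁻¹ * a⁻¹ ∈ Y ⊓ Subgroup.centralizer (L : Set G) →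
      a ∈ Y ⊓ Subgroup.centralizer (L : Set G) := by
  rcases hfree with hgood | ⟨hp2, n₁, n₂, e1, e2, e3, g1, g2, g3⟩
  · exact C.fixed_of_goodG (C.goodG_of_flGood ⟨h, hh⟩ hgood)
  · obtain ⟨ν₁, rfl⟩ := fll_rho_surjective p L n₁
    obtain ⟨ν₂, rfl⟩ := fll_rho_surjective p L n₂
    have G1 := C.goodG_of_flGood ν₁ g1
    have G2 := C.goodG_of_flGood ν₂ g2
    have G3 : FLGoodG L Y (Cfsg.pCoreOf p L) ((ν₁ : G) * (ν₂ : G)) := by
      have := C.goodG_of_flGood (ν₁ * ν₂) (by rw [map_mul]; exact g3)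
      simpa using this
    have hmk : (QuotientGroup.mk' (Cfsg.pCore p ↥L) ⟨h, hh⟩) = flRho p L ⟨h, hh⟩ := rfl
    rw [hmk] at e1 e2 e3
    have E1 : h⁻¹ * ((ν₁ : G) * (ν₁ : G)) ∈ Cfsg.pCoreOf p L := by
      have : flRho p L ((⟨h, hh⟩ : ↥L)⁻¹ * (ν₁ * ν₁)) = 1 := by
        rw [map_mul, map_inv, map_mul, e1]; group
      have := (fll_rho_eq_one_iff _).mp this
      simpa using this
    have E2 : h⁻¹ * ((ν₂ : G) * (ν₂ : G)) ∈ Cfsg.pCoreOf p L := by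
      have : flRho p L ((⟨h, hh⟩ : ↥L)⁻¹ * (ν₂ * ν₂)) = 1 := by
        rw [map_mul, map_inv, map_mul, e2]; group
      have := (fll_rho_eq_one_iff _).mp this
      simpa using this
    have E3 : h⁻¹ * (((ν₁ : G) * (ν₂ : G)) * ((ν₁ : G) * (ν₂ : G))) ∈ Cfsg.pCoreOf p L := by
      have : flRho p L ((⟨h, hh⟩ : ↥L)⁻¹ * ((ν₁ * ν₂) * (ν₁ * ν₂))) = 1 := by
        rw [map_mul, map_inv, map_mul, map_mul, e3]; group
      have := (fll_rho_eq_one_iff _).mp this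
      simpa using this
    exact C.fixed_of_quat hp2 hh G1 G2 G3 E1 E2 E3

end FLCtx

end Cfsg.Agent.FrakL
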