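import Cfsg.Agent.FrakL.CtxConj

/-!
# 𝔏_G(Y_M) lemmas: G-level goodness and the quaternion case (L5) (helper5)
-/

set_option autoImplicit false

namespace Cfsg.Agent.FrakL

variable {G : Type*} [Group G]

/-- G-level form of `FLGood` modulo `A`. -/
def FLGoodG (L Y A : Subgroup G) (h : G) : Prop :=
  ∃ g₁ g₂ y₁ y₂ a₀ : G, g₁ ∈ L ∧ g₂ ∈ L ∧ y₁ ∈ flConj Y g₁ ∧ y₂ ∈ flConj Y g₂ ∧ a₀ ∈ A ∧
    h = y₁ * y₂ * a₀ ∧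
    y₁ ∉ Subgroup.normalizer ((flConj Y g₂ : Subgroup G) : Set G) ∧
    y₂ ∉ Subgroup.normalizer ((flConj Y g₁ : Subgroup G) : Set G)

namespace FLCtx

variable {p : ℕ} {L Y A : Subgroup G}

theorem fixed_of_goodG (C : FLCtx p L Y A) {h : G} (hG : FLGoodG L Y A h) :
    ∀ a ∈ A, h * a * h⁻¹ * a⁻¹ ∈ Y ⊓ Subgroup.centralizer (L : Set G) →
      a ∈ Y ⊓ Subgroup.centralizer (L : Set G) := by
  obtain ⟨g₁, g₂, y₁, y₂, a₀, hg₁, hg₂, hy₁, hy₂, ha₀, rfl, h1, h2⟩ := hG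
  exact C.fixed_of_decomp hg₁ hg₂ hy₁ hy₂ ha₀ h1 h2

theorem goodG_mem (C : FLCtx p L Y A) {h : G} (hG : FLGoodG L Y A h) : h ∈ L := by
  obtain ⟨g₁, g₂, y₁, y₂, a₀, hg₁, hg₂, hy₁, hy₂, ha₀, rfl, -, -⟩ := hG
  exact L.mul_mem (L.mul_mem ((C.conj hg₁).hYL hy₁) ((C.conj hg₂).hYL hy₂)) (C.hAL ha₀)

/-- `[A,A] ≤ Z₀` as soon as one good element exists. -/
theorem comm_A_mem_Z_of_goodG (C : FLCtx p L Y A) {h : G} (hG : FLGoodG L Y A h) {a b : G}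
    (ha : a ∈ A) (hb : b ∈ A) : a * b * a⁻¹ * b⁻¹ ∈ Y ⊓ Subgroup.centralizer (L : Set G) := by
  obtain ⟨g₁, g₂, y₁, y₂, a₀, hg₁, hg₂, hy₁, hy₂, ha₀, rfl, h1, h2⟩ := hG
  have C₁ := C.conj hg₁
  have C₂ := C.conj hg₂
  have hgen : L ≤ flConj Y g₁ ⊔ flConj Y g₂ := by
    have hle : flConj Y g₁ ⊔ flConj Y g₂ ≤ L := sup_le C₁.hYL C₂.hYL
    by_contra hcon
    have hlt : flConj Y g₁ ⊔ flConj Y g₂ < L := lt_of_le_of_ne hle (fun e => hcon (le_of_eq e.symm))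
    exact h1 (C₂.hmax _ le_sup_right hlt (Subgroup.mem_sup_left hy₁))
  have := flb_comm_A_mem_Z C₁ C₂ hgen ha hb
  rwa [C.Z_conj hg₁] at this

end FLCtx

/-! ### the quotient `L / Z₀` -/

section Quot

variable {p : ℕ} {L Y A : Subgroup G}

/-- `Z₀` as a subgroup of `↥L`. -/
abbrev flZ (L Y : Subgroup G) : Subgroup ↥L := (Y ⊓ Subgroup.centralizer (L : Set G)).subgroupOf L

instance flZ_normal (L Y : Subgroup G) : (flZ L Y).Normal := by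
  constructor
  intro z hz l
  rw [Subgroup.mem_subgroupOf] at hz ⊢
  have hc : (l : G) * (z : G) = (z : G) * (l : G) :=
    Subgroup.mem_centralizer_iff.mp (Subgroup.mem_inf.mp hz).2 l l.2
  have : ((l * z * l⁻¹ : ↥L) : G) = (z : G) := by
    push_cast
    rw [hc]; group
  rw [this]; exact hz

/-- the projection `L → L / Z₀`. -/
def flPi (L Y : Subgroup G) : ↥L →* ↥L ⧸ flZ L Y := QuotientGroup.mk' (flZ L Y)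

theorem flq_mk_eq_one_iff {x : G} (hx : x ∈ L) :
    (flPi L Y ⟨x, hx⟩ = 1) ↔ x ∈ Y ⊓ Subgroup.centralizer (L : Set G) := by
  unfold flPi
  rw [QuotientGroup.mk'_apply, QuotientGroup.eq_one_iff, Subgroup.mem_subgroupOf]

/-- (L5) the quaternion case. -/
theorem FLCtx.fixed_of_quat (C : FLCtx p L Y A) (hp2 : p ≠ 2) [hp : Fact p.Prime] {h ν₁ ν₂ : G} (hh : h ∈ L)
    (h1 : FLGoodG L Y A ν₁) (h2 : FLGoodG L Y A ν₂) (h3 : FLGoodG L Y A (ν₁ * ν₂))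
    (e1 : h⁻¹ * (ν₁ * ν₁) ∈ A) (e2 : h⁻¹ * (ν₂ * ν₂) ∈ A) (e3 : h⁻¹ * ((ν₁ * ν₂) * (ν₁ * ν₂)) ∈ A) :
    ∀ a ∈ A, h * a * h⁻¹ * a⁻¹ ∈ Y ⊓ Subgroup.centralizer (L : Set G) →
      a ∈ Y ⊓ Subgroup.centralizer (L : Set G) := by
  intro a ha hfix
  have hν₁L := C.goodG_mem h1
  have hν₂L := C.goodG_mem h2
  have haL := C.hAL ha
  -- images of elements of A commute
  have hQ1 : ∀ b (hb : b ∈ A) c (hc : c ∈ A), flPi L Y ⟨b, C.hAL hb⟩ * flPi L Y ⟨c, C.hAL hc⟩ = flPi L Y ⟨c, C.hAL hc⟩ * flPi L Y ⟨b, C.hAL hb⟩ := by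
    intro b hb c hc
    have hm := C.comm_A_mem_Z_of_goodG h1 hb hc
    have := (flq_mk_eq_one_iff (Y := Y) (L.mul_mem (L.mul_mem (L.mul_mem (C.hAL hb) (C.hAL hc)) (L.inv_mem (C.hAL hb))) (L.inv_mem (C.hAL hc)))).mpr hm
    have e : (⟨b * c * b⁻¹ * c⁻¹, L.mul_mem (L.mul_mem (L.mul_mem (C.hAL hb) (C.hAL hc)) (L.inv_mem (C.hAL hb))) (L.inv_mem (C.hAL hc))⟩ : ↥L)
        = ⟨b, C.hAL hb⟩ * ⟨c, C.hAL hc⟩ * ⟨b, C.hAL hb⟩⁻¹ * ⟨c, C.hAL hc⟩⁻¹ := rfl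
    rw [e, map_mul, map_mul, map_mul, map_inv, map_inv] at this
    exact mul_inv_eq_iff_eq_mul.mp (mul_inv_eq_one.mp this)
  -- the generic step: a good ν with ν² ≡ h inverts the image of a
  have step : ∀ ν, FLGoodG L Y A ν → ∀ hν : ν ∈ L, h⁻¹ * (ν * ν) ∈ A →
      flPi L Y ⟨ν, hν⟩ * flPi L Y ⟨a, haL⟩ * (flPi L Y ⟨ν, hν⟩)⁻¹ = (flPi L Y ⟨a, haL⟩)⁻¹ := by
    intro ν hgood hν hsq
    have hνa : ν * a * ν⁻¹ ∈ A := flb_conj_mem_of_le_normalizer C.hAn hν ha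
    have hb : a * (ν * a * ν⁻¹) ∈ A := A.mul_mem ha hνa
    -- π h commutes with π a
    have hfix' : flPi L Y ⟨h, hh⟩ * flPi L Y ⟨a, haL⟩ * (flPi L Y ⟨h, hh⟩)⁻¹ = flPi L Y ⟨a, haL⟩ := by
      have := (flq_mk_eq_one_iff (Y := Y) (L.mul_mem (L.mul_mem (L.mul_mem hh haL) (L.inv_mem hh)) (L.inv_mem haL))).mpr hfix
      have e : (⟨h * a * h⁻¹ * a⁻¹, L.mul_mem (L.mul_mem (L.mul_mem hh haL) (L.inv_mem hh)) (L.inv_mem haL)⟩ : ↥L)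
          = ⟨h, hh⟩ * ⟨a, haL⟩ * ⟨h, hh⟩⁻¹ * ⟨a, haL⟩⁻¹ := rfl
      rw [e, map_mul, map_mul, map_mul, map_inv, map_inv] at this
      exact mul_inv_eq_one.mp this
    -- π(ν²) = π h * π a₁
    set a₁ := h⁻¹ * (ν * ν) with ha₁
    have hνν : (⟨ν, hν⟩ : ↥L) * ⟨ν, hν⟩ = ⟨h, hh⟩ * ⟨a₁, C.hAL hsq⟩ := by
      apply Subtype.ext
      show ν * ν = h * (h⁻¹ * (ν * ν))
      group
    have hsq' : flPi L Y ⟨ν, hν⟩ * flPi L Y ⟨ν, hν⟩ = flPi L Y ⟨h, hh⟩ * flPi L Y ⟨a₁, C.hAL hsq⟩ := by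
      rw [← map_mul, ← map_mul, hνν]
    -- ν² fixes π a
    have hsqfix : (flPi L Y ⟨ν, hν⟩ * flPi L Y ⟨ν, hν⟩) * flPi L Y ⟨a, haL⟩ * (flPi L Y ⟨ν, hν⟩ * flPi L Y ⟨ν, hν⟩)⁻¹ = flPi L Y ⟨a, haL⟩ := by
      rw [hsq']
      have hc := hQ1 a₁ hsq a ha
      calc flPi L Y ⟨h, hh⟩ * flPi L Y ⟨a₁, C.hAL hsq⟩ * flPi L Y ⟨a, haL⟩ * (flPi L Y ⟨h, hh⟩ * flPi L Y ⟨a₁, C.hAL hsq⟩)⁻¹
          = flPi L Y ⟨h, hh⟩ * (flPi L Y ⟨a₁, C.hAL hsq⟩ * flPi L Y ⟨a, haL⟩) * (flPi L Y ⟨a₁, C.hAL hsq⟩)⁻¹ * (flPi L Y ⟨h, hh⟩)⁻¹ := by group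
        _ = flPi L Y ⟨h, hh⟩ * (flPi L Y ⟨a, haL⟩ * flPi L Y ⟨a₁, C.hAL hsq⟩) * (flPi L Y ⟨a₁, C.hAL hsq⟩)⁻¹ * (flPi L Y ⟨h, hh⟩)⁻¹ := by rw [hc]
        _ = flPi L Y ⟨h, hh⟩ * flPi L Y ⟨a, haL⟩ * (flPi L Y ⟨h, hh⟩)⁻¹ := by group
        _ = flPi L Y ⟨a, haL⟩ := hfix'
    -- b := a * ν a ν⁻¹ is fixed by ν modulo Z₀
    have hbfix : ν * (a * (ν * a * ν⁻¹)) * ν⁻¹ * (a * (ν * a * ν⁻¹))⁻¹ ∈ Y ⊓ Subgroup.centralizer (L : Set G) := by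
      have hbL := C.hAL hb
      rw [← flq_mk_eq_one_iff (Y := Y) (L.mul_mem (L.mul_mem (L.mul_mem hν hbL) (L.inv_mem hν)) (L.inv_mem hbL))]
      have e : (⟨ν * (a * (ν * a * ν⁻¹)) * ν⁻¹ * (a * (ν * a * ν⁻¹))⁻¹,
            L.mul_mem (L.mul_mem (L.mul_mem hν hbL) (L.inv_mem hν)) (L.inv_mem hbL)⟩ : ↥L)
          = ⟨ν, hν⟩ * (⟨a, haL⟩ * (⟨ν, hν⟩ * ⟨a, haL⟩ * ⟨ν, hν⟩⁻¹)) * ⟨ν, hν⟩⁻¹ *
            (⟨a, haL⟩ * (⟨ν, hν⟩ * ⟨a, haL⟩ * ⟨ν, hν⟩⁻¹))⁻¹ := rfl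
      rw [e]
      simp only [map_mul, map_inv]
      -- in the quotient: x (u (x u x⁻¹)) x⁻¹ (u (x u x⁻¹))⁻¹ = 1
      set x := flPi L Y ⟨ν, hν⟩ with hx
      set u := flPi L Y ⟨a, haL⟩ with hu
      have hcomm : u * (x * u * x⁻¹) = (x * u * x⁻¹) * u := by
        have := hQ1 a ha (ν * a * ν⁻¹) hνa
        have e2 : (⟨ν * a * ν⁻¹, C.hAL hνa⟩ : ↥L) = ⟨ν, hν⟩ * ⟨a, haL⟩ * ⟨ν, hν⟩⁻¹ := rfl
        rw [e2] at this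
        simp only [map_mul, map_inv] at this
        exact this
      have hsq2 : x * x * u * (x * x)⁻¹ = u := hsqfix
      have e3 : x * (u * (x * u * x⁻¹)) * x⁻¹ = (x * u * x⁻¹) * (x * x * u * (x * x)⁻¹) := by group
      rw [e3, hsq2, ← hcomm]
      group
    have hbZ := C.fixed_of_goodG hgood _ hb hbfix
    have := (flq_mk_eq_one_iff (Y := Y) (C.hAL hb)).mpr hbZ
    have e : (⟨a * (ν * a * ν⁻¹), C.hAL hb⟩ : ↥L) = ⟨a, haL⟩ * (⟨ν, hν⟩ * ⟨a, haL⟩ * ⟨ν, hν⟩⁻¹) := rfl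
    rw [e] at this
    simp only [map_mul, map_inv] at this
    exact eq_inv_of_mul_eq_one_right this
  have s1 := step ν₁ h1 hν₁L e1
  have s2 := step ν₂ h2 hν₂L e2
  have s3 := step (ν₁ * ν₂) h3 (L.mul_mem hν₁L hν₂L) e3
  have e12 : (⟨ν₁ * ν₂, L.mul_mem hν₁L hν₂L⟩ : ↥L) = ⟨ν₁, hν₁L⟩ * ⟨ν₂, hν₂L⟩ := rfl
  rw [e12, map_mul] at s3
  set u := flPi L Y ⟨a, haL⟩ with hu
  set x₁ := flPi L Y ⟨ν₁, hν₁L⟩
  set x₂ := flPi L Y ⟨ν₂, hν₂L⟩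
  -- u = u⁻¹
  have huu : u = u⁻¹ := by
    have : x₁ * x₂ * u * (x₁ * x₂)⁻¹ = x₁ * (x₂ * u * x₂⁻¹) * x₁⁻¹ := by group
    rw [this, s2] at s3
    have h4 : x₁ * u⁻¹ * x₁⁻¹ = (x₁ * u * x₁⁻¹)⁻¹ := by group
    rw [h4, s1, inv_inv] at s3
    exact s3
  have husq : u * u = 1 := by
    nth_rewrite 2 [huu]
    exact mul_inv_cancel u
  -- a² ∈ Z₀
  have ha2 : a * a ∈ Y ⊓ Subgroup.centralizer (L : Set G) := by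
    rw [← flq_mk_eq_one_iff (Y := Y) (L.mul_mem haL haL)]
    have e : (⟨a * a, L.mul_mem haL haL⟩ : ↥L) = ⟨a, haL⟩ * ⟨a, haL⟩ := rfl
    rw [e, map_mul]
    exact husq
  -- a has odd order
  obtain ⟨k, hk⟩ := C.hAp ⟨a, ha⟩
  have hk' : a ^ p ^ k = 1 := by
    have := congrArg Subtype.val hk
    simpa using this
  have hdvd : orderOf a ∣ p ^ k := orderOf_dvd_of_pow_eq_one hk'
  obtain ⟨j, -, hj⟩ := (Nat.dvd_prime_pow hp.out).mp hdvd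
  have hcop : Nat.Coprime 2 (orderOf a) := by
    rw [hj]
    apply Nat.Coprime.pow_right
    rw [Nat.coprime_primes Nat.prime_two hp.out]
    exact fun e => hp2 e.symm
  obtain ⟨m, hm⟩ := exists_pow_eq_self_of_coprime hcop
  rw [← hm, pow_two]
  exact Subgroup.pow_mem _ ha2 m

end Quot

end Cfsg.Agent.FrakL
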