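import Mathlib
import Cfsg.Agent.FrakL.Defs

set_option autoImplicit false
set_option linter.unusedSectionVars false
set_option linter.unusedVariables false

/-!
# S2863/S2861, shared first step for `SL₂(F)` (helper9)

The subgroups of order `|F|` of `SL₂(F)` are the vector stabilizers `fllU v` (`v ≠ 0`); their conjugates, normalizers, and the
eigenvectors of their nontrivial elements.
-/

namespace Cfsg.Agent.FrakL

open Matrix

variable {F : Type*} [Field F]

/-- the stabilizer of the vector `v` in `SL₂(F)`. -/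
def fllU (v : Fin 2 → F) : Subgroup (Matrix.SpecialLinearGroup (Fin 2) F) :=
  MulAction.stabilizer (Matrix.SpecialLinearGroup (Fin 2) F) v

theorem fll_mem {v : Fin 2 → F} {g : Matrix.SpecialLinearGroup (Fin 2) F} :
    g ∈ fllU v ↔ g.1 *ᵥ v = v := by
  unfold fllU
  rw [MulAction.mem_stabilizer_iff, Matrix.SpecialLinearGroup.smul_def, smul_eq_mulVec]

theorem fll_mulVec (g : Matrix.SpecialLinearGroup (Fin 2) F) (v : Fin 2 → F) :
    g.1 *ᵥ v = ![g.1 0 0 * v 0 + g.1 0 1 * v 1, g.1 1 0 * v 0 + g.1 1 1 * v 1] := by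
  funext i
  fin_cases i <;> simp [mulVec, dotProduct, Fin.sum_univ_two]

theorem fll_mem_iff {v : Fin 2 → F} {g : Matrix.SpecialLinearGroup (Fin 2) F} :
    g ∈ fllU v ↔ g.1 0 0 * v 0 + g.1 0 1 * v 1 = v 0 ∧ g.1 1 0 * v 0 + g.1 1 1 * v 1 = v 1 := by
  rw [fll_mem, fll_mulVec]
  constructor
  · intro h
    exact ⟨by simpa using congrFun h 0, by simpa using congrFun h 1⟩
  · rintro ⟨h0, h1⟩
    funext i
    fin_cases i
    · simpa using h0
    · simpa using h1

theorem fll_det (g : Matrix.SpecialLinearGroup (Fin 2) F) :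
    g.1 0 0 * g.1 1 1 - g.1 0 1 * g.1 1 0 = 1 := by
  have := g.2
  rwa [det_fin_two] at this

theorem fll_ext {g h : Matrix.SpecialLinearGroup (Fin 2) F} (h00 : g.1 0 0 = h.1 0 0)
    (h01 : g.1 0 1 = h.1 0 1) (h10 : g.1 1 0 = h.1 1 0) (h11 : g.1 1 1 = h.1 1 1) : g = h := by
  apply Subtype.ext
  ext i j
  fin_cases i <;> fin_cases j <;> assumption

/-- an element of `SL₂(F)` from its entries. -/
def fllMk (a b c d : F) (h : a * d - b * c = 1) : Matrix.SpecialLinearGroup (Fin 2) F :=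
  ⟨!![a, b; c, d], by rw [det_fin_two_of]; exact h⟩

@[simp] theorem fllMk_00 (a b c d : F) (h : a * d - b * c = 1) : (fllMk a b c d h).1 0 0 = a := rfl
@[simp] theorem fllMk_01 (a b c d : F) (h : a * d - b * c = 1) : (fllMk a b c d h).1 0 1 = b := rfl
@[simp] theorem fllMk_10 (a b c d : F) (h : a * d - b * c = 1) : (fllMk a b c d h).1 1 0 = c := rfl
@[simp] theorem fllMk_11 (a b c d : F) (h : a * d - b * c = 1) : (fllMk a b c d h).1 1 1 = d := rfl

/-- upper unitriangular. -/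
def fllUp (t : F) : Matrix.SpecialLinearGroup (Fin 2) F := fllMk 1 t 0 1 (by ring)

/-- lower unitriangular. -/
def fllLo (t : F) : Matrix.SpecialLinearGroup (Fin 2) F := fllMk 1 0 t 1 (by ring)

theorem fll_mul_00 (g h : Matrix.SpecialLinearGroup (Fin 2) F) :
    (g * h).1 0 0 = g.1 0 0 * h.1 0 0 + g.1 0 1 * h.1 1 0 := by
  rw [Matrix.SpecialLinearGroup.coe_mul, Matrix.mul_apply, Fin.sum_univ_two]

theorem fll_mul_01 (g h : Matrix.SpecialLinearGroup (Fin 2) F) :
    (g * h).1 0 1 = g.1 0 0 * h.1 0 1 + g.1 0 1 * h.1 1 1 := by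
  rw [Matrix.SpecialLinearGroup.coe_mul, Matrix.mul_apply, Fin.sum_univ_two]

theorem fll_mul_10 (g h : Matrix.SpecialLinearGroup (Fin 2) F) :
    (g * h).1 1 0 = g.1 1 0 * h.1 0 0 + g.1 1 1 * h.1 1 0 := by
  rw [Matrix.SpecialLinearGroup.coe_mul, Matrix.mul_apply, Fin.sum_univ_two]

theorem fll_mul_11 (g h : Matrix.SpecialLinearGroup (Fin 2) F) :
    (g * h).1 1 1 = g.1 1 0 * h.1 0 1 + g.1 1 1 * h.1 1 1 := by
  rw [Matrix.SpecialLinearGroup.coe_mul, Matrix.mul_apply, Fin.sum_univ_two]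

theorem fll_one_00 : (1 : Matrix.SpecialLinearGroup (Fin 2) F).1 0 0 = 1 := by simp
theorem fll_one_01 : (1 : Matrix.SpecialLinearGroup (Fin 2) F).1 0 1 = 0 := by simp
theorem fll_one_10 : (1 : Matrix.SpecialLinearGroup (Fin 2) F).1 1 0 = 0 := by simp
theorem fll_one_11 : (1 : Matrix.SpecialLinearGroup (Fin 2) F).1 1 1 = 1 := by simp

/-- conjugates of vector stabilizers. -/
theorem fll_conj (c : Matrix.SpecialLinearGroup (Fin 2) F) (v : Fin 2 → F) :
    flConj (fllU v) c = fllU (c.1 *ᵥ v) := by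
  unfold fllU flConj
  rw [← smul_eq_mulVec, ← Matrix.SpecialLinearGroup.smul_def,
    MulAction.stabilizer_smul_eq_stabilizer_map_conj]

theorem fll_conj_mem {c g : Matrix.SpecialLinearGroup (Fin 2) F} {v : Fin 2 → F}
    (hg : g ∈ fllU v) : c * g * c⁻¹ ∈ fllU (c.1 *ᵥ v) := by
  rw [← fll_conj]
  exact Subgroup.mem_map.mpr ⟨g, hg, rfl⟩

/-- scaling the vector does not change the stabilizer. -/
theorem fll_smul {a : F} (ha : a ≠ 0) (v : Fin 2 → F) : fllU (a • v) = fllU v := by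
  ext g
  rw [fll_mem, fll_mem, mulVec_smul]
  constructor
  · intro h
    exact smul_right_injective (Fin 2 → F) ha h
  · intro h
    rw [h]

/-- every nonzero vector is the first column of an element of `SL₂(F)`. -/
theorem fll_exists_conj {v : Fin 2 → F} (hv : v ≠ 0) :
    ∃ c : Matrix.SpecialLinearGroup (Fin 2) F, c.1 *ᵥ ![1, 0] = v := by
  by_cases h0 : v 0 = 0
  · have h1 : v 1 ≠ 0 := by
      intro h1
      apply hv
      funext i
      fin_cases i
      · exact h0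
      · exact h1
    refine ⟨fllMk 0 (-(v 1)⁻¹) (v 1) 0
      (by rw [zero_mul, zero_sub, neg_mul, neg_neg, inv_mul_cancel₀ h1]), ?_⟩
    rw [fll_mulVec]
    funext i
    fin_cases i <;> simp [h0]
  · refine ⟨fllMk (v 0) 0 (v 1) (v 0)⁻¹ (by rw [mul_inv_cancel₀ h0, zero_mul, sub_zero]), ?_⟩
    rw [fll_mulVec]
    funext i
    fin_cases i <;> simp

theorem fll_std {g : Matrix.SpecialLinearGroup (Fin 2) F} :
    g ∈ fllU (![1, 0] : Fin 2 → F) ↔ ∃ t, g = fllUp t := by
  rw [fll_mem_iff]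
  constructor
  · rintro ⟨h0, h1⟩
    simp only [Matrix.cons_val_zero, Matrix.cons_val_one, mul_one, mul_zero, add_zero] at h0 h1
    have hd := fll_det g
    rw [h0, h1, mul_zero, sub_zero, one_mul] at hd
    exact ⟨g.1 0 1, fll_ext h0 rfl h1 hd⟩
  · rintro ⟨t, rfl⟩
    simp [fllUp]

theorem fllUp_injective : Function.Injective (fllUp : F → Matrix.SpecialLinearGroup (Fin 2) F) := by
  intro s t h
  have := congrArg (fun g : Matrix.SpecialLinearGroup (Fin 2) F => g.1 0 1) h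
  simpa [fllUp] using this

theorem fllUp_ne_one {t : F} (ht : t ≠ 0) : fllUp t ≠ 1 := by
  intro h
  have := congrArg (fun g : Matrix.SpecialLinearGroup (Fin 2) F => g.1 0 1) h
  simp [fllUp] at this
  exact ht this

theorem fllLo_ne_one {t : F} (ht : t ≠ 0) : fllLo t ≠ 1 := by
  intro h
  have := congrArg (fun g : Matrix.SpecialLinearGroup (Fin 2) F => g.1 1 0) h
  simp [fllLo] at this
  exact ht this

theorem fllLo_mem (t : F) : fllLo t ∈ fllU (![0, 1] : Fin 2 → F) := by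
  rw [fll_mem_iff]
  simp [fllLo]

theorem fllUp_mem (t : F) : fllUp t ∈ fllU (![1, 0] : Fin 2 → F) := fll_std.mpr ⟨t, rfl⟩

/-- the vector stabilizers have `|F|` elements. -/
theorem fll_card {v : Fin 2 → F} (hv : v ≠ 0) : Nat.card (fllU v) = Nat.card F := by
  obtain ⟨c, rfl⟩ := fll_exists_conj hv
  rw [← fll_conj]
  unfold flConj
  rw [Subgroup.card_map_of_injective (MulEquiv.injective _)]
  symm
  refine Nat.card_congr (Equiv.ofBijective (fun t => ⟨fllUp t, fllUp_mem t⟩) ⟨?_, ?_⟩)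
  · intro s t h
    exact fllUp_injective (congrArg Subtype.val h)
  · rintro ⟨g, hg⟩
    obtain ⟨t, rfl⟩ := fll_std.mp hg
    exact ⟨t, rfl⟩

theorem fll_exists_ne_one {v : Fin 2 → F} (hv : v ≠ 0) : ∃ g ∈ fllU v, g ≠ 1 := by
  obtain ⟨c, rfl⟩ := fll_exists_conj hv
  refine ⟨c * fllUp 1 * c⁻¹, fll_conj_mem (fllUp_mem 1), ?_⟩
  intro h
  apply fllUp_ne_one (one_ne_zero : (1 : F) ≠ 0)
  have : fllUp (1 : F) = c⁻¹ * (c * fllUp 1 * c⁻¹) * c := by group
  rw [this, h]
  group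

/-- proportionality from the vanishing of the determinant. -/
theorem fll_prop_of_det {v w : Fin 2 → F} (hv : v ≠ 0) (h : v 0 * w 1 - v 1 * w 0 = 0) :
    ∃ b : F, w = b • v := by
  by_cases h0 : v 0 = 0
  · have h1 : v 1 ≠ 0 := by
      intro h1
      apply hv
      funext i
      fin_cases i
      · exact h0
      · exact h1
    rw [h0, zero_mul, zero_sub, neg_eq_zero] at h
    have hw0 : w 0 = 0 := by
      rcases mul_eq_zero.mp h with h | h
      · exact absurd h h1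
      · exact h
    refine ⟨w 1 / v 1, ?_⟩
    funext i
    fin_cases i
    · simp [h0, hw0]
    · simp [div_mul_cancel₀ _ h1]
  · refine ⟨w 0 / v 0, ?_⟩
    funext i
    fin_cases i
    · simp [div_mul_cancel₀ _ h0]
    · simp only [Fin.mk_one, Fin.isValue, Pi.smul_apply, smul_eq_mul]
      field_simp
      linear_combination h

/-- an eigenvector of a nontrivial element of `fllU v` is proportional to `v`. -/
theorem fll_eigen_det {v : Fin 2 → F} {g : Matrix.SpecialLinearGroup (Fin 2) F} (hg : g ∈ fllU v)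
    (hg1 : g ≠ 1) {w : Fin 2 → F} {a : F} (h : g.1 *ᵥ w = a • w) : v 0 * w 1 - v 1 * w 0 = 0 := by
  by_contra hD
  rw [fll_mem_iff] at hg
  obtain ⟨h1, h2⟩ := hg
  rw [fll_mulVec] at h
  have h3 : g.1 0 0 * w 0 + g.1 0 1 * w 1 = a * w 0 := by simpa using congrFun h 0
  have h4 : g.1 1 0 * w 0 + g.1 1 1 * w 1 = a * w 1 := by simpa using congrFun h 1
  have hd := fll_det g
  have ha : a = 1 := by
    have e : (a - 1) * (v 0 * w 1 - v 1 * w 0) = 0 := by
      linear_combination (v 0 * w 1 - v 1 * w 0) * hd - (g.1 1 0 * w 0 + g.1 1 1 * w 1) * h1 +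
        (g.1 0 0 * w 0 + g.1 0 1 * w 1) * h2 + v 1 * h3 - v 0 * h4
    rcases mul_eq_zero.mp e with e | e
    · exact sub_eq_zero.mp e
    · exact absurd e hD
  subst ha
  rw [one_mul] at h3 h4
  apply hg1
  have e00 : (g.1 0 0 - 1) * (v 0 * w 1 - v 1 * w 0) = 0 := by linear_combination w 1 * h1 - v 1 * h3
  have e01 : g.1 0 1 * (v 0 * w 1 - v 1 * w 0) = 0 := by linear_combination v 0 * h3 - w 0 * h1
  have e10 : g.1 1 0 * (v 0 * w 1 - v 1 * w 0) = 0 := by linear_combination w 1 * h2 - v 1 * h4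
  have e11 : (g.1 1 1 - 1) * (v 0 * w 1 - v 1 * w 0) = 0 := by linear_combination v 0 * h4 - w 0 * h2
  apply fll_ext
  · rw [fll_one_00]
    exact sub_eq_zero.mp ((mul_eq_zero.mp e00).resolve_right hD)
  · rw [fll_one_01]
    exact (mul_eq_zero.mp e01).resolve_right hD
  · rw [fll_one_10]
    exact (mul_eq_zero.mp e10).resolve_right hD
  · rw [fll_one_11]
    exact sub_eq_zero.mp ((mul_eq_zero.mp e11).resolve_right hD)

theorem fll_eigen {v : Fin 2 → F} (hv : v ≠ 0) {g : Matrix.SpecialLinearGroup (Fin 2) F}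
    (hg : g ∈ fllU v) (hg1 : g ≠ 1) {w : Fin 2 → F} {a : F} (h : g.1 *ᵥ w = a • w) :
    ∃ b : F, w = b • v :=
  fll_prop_of_det hv (fll_eigen_det hg hg1 h)

theorem fll_inv_mulVec (g : Matrix.SpecialLinearGroup (Fin 2) F) (v : Fin 2 → F) :
    (g⁻¹).1 *ᵥ (g.1 *ᵥ v) = v := by
  rw [mulVec_mulVec, ← Matrix.SpecialLinearGroup.coe_mul, inv_mul_cancel]
  simp

theorem fll_mulVec_inv (g : Matrix.SpecialLinearGroup (Fin 2) F) (v : Fin 2 → F) :
    g.1 *ᵥ ((g⁻¹).1 *ᵥ v) = v := by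
  rw [mulVec_mulVec, ← Matrix.SpecialLinearGroup.coe_mul, mul_inv_cancel]
  simp

/-- the normalizer of `fllU v` is the stabilizer of the line `F v`. -/
theorem fll_mem_normalizer {v : Fin 2 → F} (hv : v ≠ 0) (g : Matrix.SpecialLinearGroup (Fin 2) F) :
    g ∈ Subgroup.normalizer ((fllU v : Subgroup (Matrix.SpecialLinearGroup (Fin 2) F)) :
      Set (Matrix.SpecialLinearGroup (Fin 2) F)) ↔ ∃ a : F, g.1 *ᵥ v = a • v := by
  constructor
  · intro hg
    obtain ⟨h, hh, hh1⟩ := fll_exists_ne_one hv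
    have hg' := inv_mem hg
    have h2 : g⁻¹ * h * g⁻¹⁻¹ ∈ fllU v := (Subgroup.mem_set_normalizer_iff.mp hg' h).mp hh
    rw [inv_inv, fll_mem, Matrix.SpecialLinearGroup.coe_mul, Matrix.SpecialLinearGroup.coe_mul,
      ← mulVec_mulVec, ← mulVec_mulVec] at h2
    have h3 : h.1 *ᵥ (g.1 *ᵥ v) = (1 : F) • (g.1 *ᵥ v) := by
      rw [one_smul]
      have h5 : g.1 *ᵥ ((g⁻¹).1 *ᵥ (h.1 *ᵥ (g.1 *ᵥ v))) = g.1 *ᵥ v := by rw [h2]
      rw [fll_mulVec_inv] at h5
      exact h5
    exact fll_eigen hv hh hh1 h3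
  · rintro ⟨a, ha⟩
    have ha0 : a ≠ 0 := by
      intro h0
      rw [h0, zero_smul] at ha
      apply hv
      have := fll_inv_mulVec g v
      rw [ha, mulVec_zero] at this
      exact this.symm
    have hgi : (g⁻¹).1 *ᵥ v = a⁻¹ • v := by
      have h5 := fll_inv_mulVec g v
      rw [ha, mulVec_smul] at h5
      calc (g⁻¹).1 *ᵥ v = a⁻¹ • (a • ((g⁻¹).1 *ᵥ v)) := by
            rw [smul_smul, inv_mul_cancel₀ ha0, one_smul]
        _ = a⁻¹ • v := by rw [h5]
    rw [Subgroup.mem_set_normalizer_iff]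
    intro h
    have key : g * h * g⁻¹ ∈ fllU v ↔ h ∈ fllU ((g⁻¹).1 *ᵥ v) := by
      constructor
      · intro h1
        have := fll_conj_mem (c := g⁻¹) h1
        have e : g⁻¹ * (g * h * g⁻¹) * g⁻¹⁻¹ = h := by group
        rwa [e] at this
      · intro h1
        have := fll_conj_mem (c := g) h1
        rwa [fll_mulVec_inv] at this
    rw [SetLike.mem_coe, SetLike.mem_coe, key, hgi, fll_smul (inv_ne_zero ha0)]

section fin

variable [Fintype F]

/-- a subgroup of order `|F|` of `SL₂(F)` is a vector stabilizer. -/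
theorem fll_exists_vec (p : ℕ) [Fact p.Prime] [CharP F p] (E : Subgroup (Matrix.SpecialLinearGroup (Fin 2) F))
    (hE : Nat.card E = Fintype.card F) : ∃ v : Fin 2 → F, v ≠ 0 ∧ E = fllU v := by
  obtain ⟨n, -, hn⟩ := FiniteField.card F p
  have hP : IsPGroup p E := IsPGroup.of_card (n := n) (by rw [hE, hn])
  have hdvd : p ∣ Nat.card (Fin 2 → F) := by
    rw [Nat.card_eq_fintype_card, Fintype.card_fun, hn, Fintype.card_fin]
    exact dvd_pow (dvd_pow_self p n.ne_zero) (by norm_num)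
  have h0 : (0 : Fin 2 → F) ∈ MulAction.fixedPoints E (Fin 2 → F) := by
    intro e
    exact smul_zero e
  obtain ⟨b, hb, hb0⟩ := hP.exists_fixed_point_of_prime_dvd_card_of_fixed_point (Fin 2 → F) hdvd h0
  have hb0' : b ≠ 0 := fun h => hb0 h.symm
  refine ⟨b, hb0', ?_⟩
  have hle : E ≤ fllU b := by
    intro e he
    have := hb ⟨e, he⟩
    unfold fllU
    rw [MulAction.mem_stabilizer_iff]
    exact this
  refine Subgroup.eq_of_le_of_card_ge hle ?_
  rw [fll_card hb0', hE, Nat.card_eq_fintype_card]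

end fin

end Cfsg.Agent.FrakL
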