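import Mathlib
import Cfsg.Agent.FrakL.SL2Line

set_option autoImplicit false
set_option linter.unusedSectionVars false
set_option linter.unusedVariables false
set_option linter.unusedSimpArgs false
set_option linter.unreachableTactic false
set_option linter.unusedTactic false

/-!
# S2863, package (SL-F) (helper9): every non-`p`-element of `SL₂(F)` is `FLFree` for a subgroup of order `|F|`

A non-scalar `x` with `tr x ≠ 2` is a product of two nontrivial transvections with different axes (`fllSplit`), hence `FLGood`;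
`tr x = 2` forces `x ^ p = 1`; the scalar `-1` (`p` odd) is the common square of a quaternion triple of trace zero elements.
-/

namespace Cfsg.Agent.FrakL

open Matrix

variable {F : Type*} [Field F]

theorem fls_inv_00 (g : Matrix.SpecialLinearGroup (Fin 2) F) : (g⁻¹).1 0 0 = g.1 1 1 := by
  rw [Matrix.SpecialLinearGroup.coe_inv, adjugate_fin_two]
  rfl

theorem fls_inv_01 (g : Matrix.SpecialLinearGroup (Fin 2) F) : (g⁻¹).1 0 1 = -g.1 0 1 := by
  rw [Matrix.SpecialLinearGroup.coe_inv, adjugate_fin_two]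
  rfl

theorem fls_inv_10 (g : Matrix.SpecialLinearGroup (Fin 2) F) : (g⁻¹).1 1 0 = -g.1 1 0 := by
  rw [Matrix.SpecialLinearGroup.coe_inv, adjugate_fin_two]
  rfl

theorem fls_inv_11 (g : Matrix.SpecialLinearGroup (Fin 2) F) : (g⁻¹).1 1 1 = g.1 0 0 := by
  rw [Matrix.SpecialLinearGroup.coe_inv, adjugate_fin_two]
  rfl

/-- `x` is a product of nontrivial elements of the stabilizers of two independent vectors. -/
def fllSplit (x : Matrix.SpecialLinearGroup (Fin 2) F) : Prop :=
  ∃ (v w : Fin 2 → F) (u₁ u₂ : Matrix.SpecialLinearGroup (Fin 2) F),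
    v 0 * w 1 - v 1 * w 0 ≠ 0 ∧ u₁ ∈ fllU v ∧ u₂ ∈ fllU w ∧ u₁ ≠ 1 ∧ u₂ ≠ 1 ∧ x = u₁ * u₂

theorem fls_exists_conj {v w : Fin 2 → F} (hv : v ≠ 0) (hw : w ≠ 0) :
    ∃ c : Matrix.SpecialLinearGroup (Fin 2) F, c.1 *ᵥ v = w := by
  obtain ⟨a, ha⟩ := fll_exists_conj hv
  obtain ⟨b, hb⟩ := fll_exists_conj hw
  refine ⟨b * a⁻¹, ?_⟩
  rw [Matrix.SpecialLinearGroup.coe_mul, ← mulVec_mulVec, ← ha, fll_inv_mulVec, hb]

theorem fls_ne_zero_left {v w : Fin 2 → F} (h : v 0 * w 1 - v 1 * w 0 ≠ 0) : v ≠ 0 := by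
  rintro rfl
  apply h
  simp

theorem fls_ne_zero_right {v w : Fin 2 → F} (h : v 0 * w 1 - v 1 * w 0 ≠ 0) : w ≠ 0 := by
  rintro rfl
  apply h
  simp

/-- a split element is good for every vector stabilizer. -/
theorem fls_good_of_split {v₀ : Fin 2 → F} (hv₀ : v₀ ≠ 0) {x : Matrix.SpecialLinearGroup (Fin 2) F}
    (h : fllSplit x) : FLGood (fllU v₀) x := by
  obtain ⟨v, w, u₁, u₂, hD, h1, h2, hne1, hne2, rfl⟩ := h
  have hv := fls_ne_zero_left hD
  have hw := fls_ne_zero_right hD
  obtain ⟨c₁, hc₁⟩ := fls_exists_conj hv₀ hv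
  obtain ⟨c₂, hc₂⟩ := fls_exists_conj hv₀ hw
  refine ⟨c₁, c₂, u₁, u₂, ?_, ?_, rfl, ?_, ?_⟩
  · rw [fll_conj, hc₁]
    exact h1
  · rw [fll_conj, hc₂]
    exact h2
  · rw [fll_conj, hc₂, fll_mem_normalizer hw]
    rintro ⟨a, ha⟩
    exact hD (fll_eigen_det h1 hne1 ha)
  · rw [fll_conj, hc₁, fll_mem_normalizer hv]
    rintro ⟨a, ha⟩
    apply hD
    have := fll_eigen_det h2 hne2 ha
    linear_combination -this

/-- conjugation invariance of `fllSplit`. -/
theorem fls_split_conj {x : Matrix.SpecialLinearGroup (Fin 2) F} (g : Matrix.SpecialLinearGroup (Fin 2) F)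
    (h : fllSplit x) : fllSplit (g * x * g⁻¹) := by
  obtain ⟨v, w, u₁, u₂, hD, h1, h2, hne1, hne2, rfl⟩ := h
  refine ⟨g.1 *ᵥ v, g.1 *ᵥ w, g * u₁ * g⁻¹, g * u₂ * g⁻¹, ?_, fll_conj_mem h1, fll_conj_mem h2, ?_, ?_, ?_⟩
  · rw [fll_mulVec, fll_mulVec]
    simp only [Matrix.cons_val_zero, Matrix.cons_val_one]
    intro h0
    apply hD
    have hd := fll_det g
    have e : (g.1 0 0 * v 0 + g.1 0 1 * v 1) * (g.1 1 0 * w 0 + g.1 1 1 * w 1) -
        (g.1 1 0 * v 0 + g.1 1 1 * v 1) * (g.1 0 0 * w 0 + g.1 0 1 * w 1) =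
        (g.1 0 0 * g.1 1 1 - g.1 0 1 * g.1 1 0) * (v 0 * w 1 - v 1 * w 0) := by ring
    rw [e, hd, one_mul] at h0
    exact h0
  · intro h0
    apply hne1
    have : u₁ = g⁻¹ * (g * u₁ * g⁻¹) * g := by group
    rw [this, h0]
    group
  · intro h0
    apply hne2
    have : u₂ = g⁻¹ * (g * u₂ * g⁻¹) * g := by group
    rw [this, h0]
    group
  · group

theorem fls_lo_mul_lo (s t : F) : fllLo s * fllLo t = fllLo (s + t) := by
  apply fll_ext <;>
    simp [fll_mul_00, fll_mul_01, fll_mul_10, fll_mul_11, fllLo] <;> ring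

/-- the case `x₀₁ ≠ 0`. -/
theorem fls_split_of_01 {x : Matrix.SpecialLinearGroup (Fin 2) F} (hb : x.1 0 1 ≠ 0)
    (htr : x.1 0 0 + x.1 1 1 ≠ 2) : fllSplit x := by
  set α := x.1 0 0 with hα
  set β := x.1 0 1 with hβ
  set γ := x.1 1 0 with hγ
  set δ := x.1 1 1 with hδ
  have hd : α * δ - β * γ = 1 := fll_det x
  set s : F := (δ - 1) / β with hs
  set r : F := (α - 1) / β with hr
  have hsr : s + r ≠ 0 := by
    intro h0
    apply htr
    have : (s + r) * β = α + δ - 2 := by
      rw [hs, hr]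
      field_simp
      ring
    rw [h0, zero_mul] at this
    linear_combination -this
  refine ⟨![1, s], ![0, 1], fllLo s * fllUp β * fllLo (-s), fllLo (s + r), ?_, ?_, fllLo_mem _, ?_,
    fllLo_ne_one hsr, ?_⟩
  · simp
  · rw [fll_mem_iff]
    simp only [fll_mul_00, fll_mul_01, fll_mul_10, fll_mul_11, fllLo, fllUp, fllMk_00, fllMk_01, fllMk_10,
      fllMk_11, Matrix.cons_val_zero, Matrix.cons_val_one]
    constructor <;> ring
  · intro h0
    have := congrArg (fun g : Matrix.SpecialLinearGroup (Fin 2) F => g.1 0 1) h0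
    simp only [fll_mul_00, fll_mul_01, fll_mul_10, fll_mul_11, fllLo, fllUp, fllMk_00, fllMk_01, fllMk_10,
      fllMk_11, fll_one_01] at this
    apply hb
    linear_combination this
  · rw [mul_assoc, fls_lo_mul_lo]
    have e : -s + (s + r) = r := by ring
    rw [e]
    apply fll_ext
    · simp only [fll_mul_00, fll_mul_01, fll_mul_10, fll_mul_11, fllLo, fllUp, fllMk_00, fllMk_01,
        fllMk_10, fllMk_11]
      rw [hr]
      field_simp
      ring
    · simp only [fll_mul_00, fll_mul_01, fll_mul_10, fll_mul_11, fllLo, fllUp, fllMk_00, fllMk_01,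
        fllMk_10, fllMk_11]
      ring
    · simp only [fll_mul_00, fll_mul_01, fll_mul_10, fll_mul_11, fllLo, fllUp, fllMk_00, fllMk_01,
        fllMk_10, fllMk_11]
      rw [hr, hs]
      field_simp
      linear_combination (-1 : F) * hd
    · simp only [fll_mul_00, fll_mul_01, fll_mul_10, fll_mul_11, fllLo, fllUp, fllMk_00, fllMk_01,
        fllMk_10, fllMk_11]
      rw [hs]
      field_simp
      ring

/-- the Weyl element. -/
def flsW : Matrix.SpecialLinearGroup (Fin 2) F := fllMk 0 1 (-1) 0 (by ring)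

/-- the case `x₁₀ ≠ 0`. -/
theorem fls_split_of_10 {x : Matrix.SpecialLinearGroup (Fin 2) F} (hc : x.1 1 0 ≠ 0)
    (htr : x.1 0 0 + x.1 1 1 ≠ 2) : fllSplit x := by
  have h1 : fllSplit (flsW * x * flsW⁻¹) := by
    apply fls_split_of_01
    · simp only [fll_mul_00, fll_mul_01, fll_mul_10, fll_mul_11, fls_inv_00, fls_inv_01, fls_inv_10,
        fls_inv_11, flsW, fllMk_00, fllMk_01, fllMk_10, fllMk_11]
      intro h0
      apply hc
      linear_combination -h0
    · simp only [fll_mul_00, fll_mul_01, fll_mul_10, fll_mul_11, fls_inv_00, fls_inv_01, fls_inv_10,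
        fls_inv_11, flsW, fllMk_00, fllMk_01, fllMk_10, fllMk_11]
      intro h0
      apply htr
      linear_combination h0
  have h2 := fls_split_conj (flsW⁻¹ : Matrix.SpecialLinearGroup (Fin 2) F) h1
  have e : (flsW : Matrix.SpecialLinearGroup (Fin 2) F)⁻¹ * (flsW * x * flsW⁻¹) * flsW⁻¹⁻¹ = x := by
    group
  rwa [e] at h2

/-- the diagonal non-scalar case. -/
theorem fls_split_of_diag {x : Matrix.SpecialLinearGroup (Fin 2) F} (hb : x.1 0 1 = 0)
    (hc : x.1 1 0 = 0) (hne : x.1 0 0 ≠ x.1 1 1) (htr : x.1 0 0 + x.1 1 1 ≠ 2) : fllSplit x := by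
  have h1 : fllSplit (fllUp 1 * x * (fllUp 1)⁻¹) := by
    apply fls_split_of_01
    · simp only [fll_mul_00, fll_mul_01, fll_mul_10, fll_mul_11, fls_inv_00, fls_inv_01, fls_inv_10,
        fls_inv_11, fllUp, fllMk_00, fllMk_01, fllMk_10, fllMk_11, hb]
      intro h0
      apply hne
      linear_combination -h0 - hc
    · simp only [fll_mul_00, fll_mul_01, fll_mul_10, fll_mul_11, fls_inv_00, fls_inv_01, fls_inv_10,
        fls_inv_11, fllUp, fllMk_00, fllMk_01, fllMk_10, fllMk_11, hb]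
      intro h0
      apply htr
      linear_combination h0
  have h2 := fls_split_conj ((fllUp 1)⁻¹ : Matrix.SpecialLinearGroup (Fin 2) F) h1
  have e : (fllUp (1 : F))⁻¹ * (fllUp 1 * x * (fllUp 1)⁻¹) * (fllUp 1)⁻¹⁻¹ = x := by group
  rwa [e] at h2

/-- a non-scalar element of trace `≠ 2` splits. -/
theorem fls_split_of_nonscalar {x : Matrix.SpecialLinearGroup (Fin 2) F}
    (hns : ¬ (x.1 0 1 = 0 ∧ x.1 1 0 = 0 ∧ x.1 0 0 = x.1 1 1)) (htr : x.1 0 0 + x.1 1 1 ≠ 2) :
    fllSplit x := by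
  by_cases hb : x.1 0 1 = 0
  · by_cases hc : x.1 1 0 = 0
    · exact fls_split_of_diag hb hc (fun h => hns ⟨hb, hc, h⟩) htr
    · exact fls_split_of_10 hc htr
  · exact fls_split_of_01 hb htr

section char

variable (p : ℕ) [Fact p.Prime] [CharP F p]

/-- trace `2` forces `x ^ p = 1`. -/
theorem fls_pow_char {x : Matrix.SpecialLinearGroup (Fin 2) F} (htr : x.1 0 0 + x.1 1 1 = 2) :
    x ^ p = 1 := by
  have hd := fll_det x
  have hN : (x.1 - 1) * (x.1 - 1) = 0 := by
    ext i j
    fin_cases i <;> fin_cases j <;>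
      simp [Matrix.mul_apply, Fin.sum_univ_two]
    · linear_combination x.1 0 0 * htr - hd
    · linear_combination x.1 0 1 * htr
    · linear_combination x.1 1 0 * htr
    · linear_combination x.1 1 1 * htr - hd
  have hp2 : 2 ≤ p := (Fact.out : p.Prime).two_le
  have hNp : (x.1 - 1) ^ p = 0 := by
    obtain ⟨k, rfl⟩ := Nat.exists_eq_add_of_le hp2
    rw [pow_add, pow_two, hN, zero_mul]
  apply Subtype.ext
  rw [Matrix.SpecialLinearGroup.coe_pow, Matrix.SpecialLinearGroup.coe_one]
  have e : x.1 = 1 + (x.1 - 1) := by abel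
  rw [e, add_pow_char_of_commute p (Commute.one_left _), one_pow, hNp, add_zero]

theorem fls_two_ne_zero (hp2 : p ≠ 2) : (2 : F) ≠ 0 := by
  intro h
  have h2 : ((2 : ℕ) : F) = 0 := by exact_mod_cast h
  rw [CharP.cast_eq_zero_iff F p] at h2
  exact hp2 ((Nat.prime_dvd_prime_iff_eq Fact.out Nat.prime_two).mp h2)

/-- a non-scalar non-`p`-element is good. -/
theorem fls_good_of_nonscalar {v₀ : Fin 2 → F} (hv₀ : v₀ ≠ 0)
    {x : Matrix.SpecialLinearGroup (Fin 2) F}
    (hns : ¬ (x.1 0 1 = 0 ∧ x.1 1 0 = 0 ∧ x.1 0 0 = x.1 1 1))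
    (hx : ¬ ∃ k : ℕ, orderOf x = p ^ k) : FLGood (fllU v₀) x := by
  apply fls_good_of_split hv₀
  apply fls_split_of_nonscalar hns
  intro htr
  apply hx
  have h1 : orderOf x ∣ p := orderOf_dvd_of_pow_eq_one (fls_pow_char p htr)
  rcases (Nat.dvd_prime Fact.out).mp h1 with h | h
  · exact ⟨0, by rw [h, pow_zero]⟩
  · exact ⟨1, by rw [h, pow_one]⟩

/-- a non-scalar element of trace zero is good (`p` odd). -/
theorem fls_good_of_tr_zero (hp2 : p ≠ 2) {v₀ : Fin 2 → F} (hv₀ : v₀ ≠ 0)
    {n : Matrix.SpecialLinearGroup (Fin 2) F} (htr : n.1 0 0 + n.1 1 1 = 0)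
    (hns : ¬ (n.1 0 1 = 0 ∧ n.1 1 0 = 0 ∧ n.1 0 0 = n.1 1 1)) : FLGood (fllU v₀) n := by
  apply fls_good_of_split hv₀
  apply fls_split_of_nonscalar hns
  rw [htr]
  exact fun h => fls_two_ne_zero (F := F) p hp2 h.symm

end char

section main

variable [Fintype F] {p : ℕ} [Fact p.Prime] [CharP F p]

/-- **(SL-F)**: every non-`p`-element of `SL₂(F)` is `FLFree` for a subgroup of order `|F|`. -/
theorem fl_sl2_free (E : Subgroup (Matrix.SpecialLinearGroup (Fin 2) F))
    (hE : Nat.card E = Fintype.card F) (x : Matrix.SpecialLinearGroup (Fin 2) F)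
    (hx : ¬ ∃ k : ℕ, orderOf x = p ^ k) : FLFree p E x := by
  obtain ⟨v₀, hv₀, rfl⟩ := fll_exists_vec p E hE
  by_cases hns : x.1 0 1 = 0 ∧ x.1 1 0 = 0 ∧ x.1 0 0 = x.1 1 1
  · obtain ⟨hb, hc, had⟩ := hns
    have hd := fll_det x
    rw [hb, zero_mul, sub_zero, ← had] at hd
    have h1 : x.1 0 0 = 1 ∨ x.1 0 0 = -1 := mul_self_eq_one_iff.mp hd
    have hxne : x.1 0 0 ≠ 1 := by
      intro h
      apply hx
      refine ⟨0, ?_⟩
      rw [pow_zero, orderOf_eq_one_iff]
      exact fll_ext (h.trans fll_one_00.symm) (hb.trans fll_one_01.symm) (hc.trans fll_one_10.symm)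
        ((had.symm.trans h).trans fll_one_11.symm)
    have hm1 : x.1 0 0 = -1 := h1.resolve_left hxne
    have hp2 : p ≠ 2 := by
      intro h2
      apply hxne
      rw [hm1]
      have h20 : (2 : F) = 0 := by
        have : ((p : ℕ) : F) = 0 := CharP.cast_eq_zero F p
        rw [h2] at this
        exact_mod_cast this
      linear_combination -h20
    right
    refine ⟨hp2, ?_⟩
    haveI : NeZero p := ⟨(Fact.out : p.Prime).ne_zero⟩
    obtain ⟨a, b, hab⟩ := CharP.sq_add_sq F p (-1)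
    have hab' : (a : F) * (a : F) + (b : F) * (b : F) = -1 := by
      have h3 := hab
      push_cast at h3
      linear_combination h3
    have h2F : (2 : F) ≠ 0 := fls_two_ne_zero (F := F) p hp2
    have hx11 : x.1 1 1 = -1 := had.symm.trans hm1
    have hnot : ¬ ((a : F) = 0 ∧ (b : F) = 0) := by
      rintro ⟨ha, hb0⟩
      rw [ha, hb0] at hab'
      have : (1 : F) = 0 := by linear_combination hab'
      exact one_ne_zero this
    refine ⟨flsW, fllMk (a : F) (b : F) (b : F) (-(a : F)) (by linear_combination -hab'), ?_, ?_, ?_, ?_,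
      ?_, ?_⟩
    · apply fll_ext <;>
        simp only [fll_mul_00, fll_mul_01, fll_mul_10, fll_mul_11, flsW, fllMk_00, fllMk_01, fllMk_10,
          fllMk_11, hm1, hb, hc, hx11] <;> ring
    · apply fll_ext <;>
        simp only [fll_mul_00, fll_mul_01, fll_mul_10, fll_mul_11, flsW, fllMk_00, fllMk_01, fllMk_10,
          fllMk_11, hm1, hb, hc, hx11]
      · linear_combination hab'
      · ring
      · ring
      · linear_combination hab'
    · apply fll_ext <;>
        simp only [fll_mul_00, fll_mul_01, fll_mul_10, fll_mul_11, flsW, fllMk_00, fllMk_01, fllMk_10,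
          fllMk_11, hm1, hb, hc, hx11]
      · linear_combination hab'
      · ring
      · ring
      · linear_combination hab'
    · apply fls_good_of_tr_zero p hp2 hv₀
      · simp only [flsW, fllMk_00, fllMk_11]
        ring
      · rintro ⟨h01, -, -⟩
        simp only [flsW, fllMk_01] at h01
        exact one_ne_zero h01
    · apply fls_good_of_tr_zero p hp2 hv₀
      · simp only [fllMk_00, fllMk_11]
        ring
      · rintro ⟨h01, -, h00⟩
        simp only [fllMk_00, fllMk_01, fllMk_11] at h01 h00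
        apply hnot
        refine ⟨?_, h01⟩
        have : (2 : F) * (a : F) = 0 := by linear_combination h00
        exact (mul_eq_zero.mp this).resolve_left h2F
    · apply fls_good_of_tr_zero p hp2 hv₀
      · simp only [fll_mul_00, fll_mul_01, fll_mul_10, fll_mul_11, flsW, fllMk_00, fllMk_01, fllMk_10,
          fllMk_11]
        ring
      · rintro ⟨h01, -, h00⟩
        simp only [fll_mul_00, fll_mul_01, fll_mul_10, fll_mul_11, flsW, fllMk_00, fllMk_01, fllMk_10,
          fllMk_11] at h01 h00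
        apply hnot
        constructor
        · linear_combination -h01
        · have : (2 : F) * (b : F) = 0 := by linear_combination h00
          exact (mul_eq_zero.mp this).resolve_left h2F
  · left
    exact fls_good_of_nonscalar p hv₀ hns hx

end main

end Cfsg.Agent.FrakL
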