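import Cfsg.Agent.FrakL.SL2Std

/-!
# 𝔏_G(Y_M) lemmas: `FLFree` for a subgroup of order `|F|` of `SL₂(F)` (standard-form proof)
-/

set_option autoImplicit false

namespace Cfsg.Agent.FrakL

open Matrix

section Gen

variable {Γ : Type*} [Group Γ]

theorem flg_flConj_one (E : Subgroup Γ) : flConj E 1 = E := by
  ext y
  rw [flc_mem_flConj_iff]
  simp

theorem FLGood.conj_elt {E : Subgroup Γ} {y : Γ} (h : FLGood E y) (c : Γ) :
    FLGood E (c * y * c⁻¹) := by
  have h1 : FLGood (flConj (flConj E c) c⁻¹) ((MulAut.conj c) y) :=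
    (h.map_equiv (MulAut.conj c)).conj c⁻¹
  rw [flConj_flConj, inv_mul_cancel, flg_flConj_one] at h1
  simpa [MulAut.conj_apply] using h1

theorem flg_good_conj_back {E : Subgroup Γ} (c x : Γ) (h : FLGood E (c * x * c⁻¹)) :
    FLGood E x := by
  have h1 := h.conj_elt c⁻¹
  have e : c⁻¹ * (c * x * c⁻¹) * c⁻¹⁻¹ = x := by group
  rw [e] at h1
  exact h1

end Gen

variable {F : Type*} [Field F]

theorem flg_good_lo_up (γ t : F) (hγ : γ ≠ 0) (ht : t ≠ 0) :
    FLGood (fluU F) (fluLo γ * fluUp t) := by
  refine ⟨fluW, 1, fluLo γ, fluUp t, ?_, ?_, rfl, ?_, ?_⟩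
  · rw [flc_mem_flConj_iff, flu_lo_eq]
    have e : (fluW : Matrix.SpecialLinearGroup (Fin 2) F)⁻¹ *
        (fluW * fluUp (-γ) * fluW⁻¹) * fluW = fluUp (-γ) := by group
    rw [e]
    exact flu_up_mem _
  · rw [flg_flConj_one]
    exact flu_up_mem t
  · rw [flu_mem_normalizer_conj]
    intro h
    apply hγ
    simpa using h
  · rw [flu_mem_normalizer_conj]
    intro h
    apply ht
    simpa [flu_mul_apply, flu_inv_00, flu_inv_01, flu_inv_10, flu_inv_11] using h

theorem flg_good_of_entry (x : Matrix.SpecialLinearGroup (Fin 2) F) (h10 : x 1 0 ≠ 0)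
    (htr : x 0 0 + x 1 1 ≠ 2) : FLGood (fluU F) x := by
  have hd := flu_det x
  have ht : (x 0 0 + x 1 1 - 2) / x 1 0 ≠ 0 :=
    div_ne_zero (sub_ne_zero.2 htr) h10
  have e : x = fluUp ((x 0 0 - 1) / x 1 0) *
      (fluLo (x 1 0) * fluUp ((x 0 0 + x 1 1 - 2) / x 1 0)) * (fluUp ((x 0 0 - 1) / x 1 0))⁻¹ := by
    rw [← flu_up_neg]
    apply flu_ext
    · simp [flu_mul_apply]
      field_simp
      ring
    · simp [flu_mul_apply]
      field_simp
      linear_combination (-1 : F) * hd
    · simp [flu_mul_apply]
    · simp [flu_mul_apply]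
      field_simp
      ring
  rw [e]
  exact (flg_good_lo_up _ _ h10 ht).conj_elt _

theorem flg_good_of_nonscalar (x : Matrix.SpecialLinearGroup (Fin 2) F)
    (hns : ¬ (x 0 1 = 0 ∧ x 1 0 = 0 ∧ x 0 0 = x 1 1)) (htr : x 0 0 + x 1 1 ≠ 2) :
    FLGood (fluU F) x := by
  by_cases h10 : x 1 0 = 0
  · by_cases h01 : x 0 1 = 0
    · have hne : x 0 0 ≠ x 1 1 := fun h => hns ⟨h01, h10, h⟩
      apply flg_good_conj_back (fluLo 1) x
      apply flg_good_of_entry
      · simp [flu_mul_apply, flu_inv_00, flu_inv_01, flu_inv_10, flu_inv_11, h10, h01]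
        intro h
        apply hne
        linear_combination h
      · simp [flu_mul_apply, flu_inv_00, flu_inv_01, flu_inv_10, flu_inv_11, h10, h01]
        intro h
        apply htr
        linear_combination h
    · apply flg_good_conj_back fluW x
      apply flg_good_of_entry
      · simp [flu_mul_apply, flu_inv_00, flu_inv_01, flu_inv_10, flu_inv_11, h10, h01]
      · simp [flu_mul_apply, flu_inv_00, flu_inv_01, flu_inv_10, flu_inv_11, h10]
        intro h
        apply htr
        linear_combination h
  · exact flg_good_of_entry x h10 htr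

theorem flg_pow_entries (x : Matrix.SpecialLinearGroup (Fin 2) F) (htr : x 0 0 + x 1 1 = 2)
    (k : ℕ) :
    (x ^ k) 0 0 = (k : F) * x 0 0 - ((k : F) - 1) ∧ (x ^ k) 0 1 = (k : F) * x 0 1 ∧
      (x ^ k) 1 0 = (k : F) * x 1 0 ∧ (x ^ k) 1 1 = (k : F) * x 1 1 - ((k : F) - 1) := by
  have hd := flu_det x
  induction k with
  | zero => simp
  | succ k ih =>
    obtain ⟨i00, i01, i10, i11⟩ := ih
    rw [pow_succ]
    refine ⟨?_, ?_, ?_, ?_⟩
    · rw [flu_mul_apply, i00, i01]
      push_cast
      linear_combination (k : F) * (-hd + x 0 0 * htr)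
    · rw [flu_mul_apply, i00, i01]
      push_cast
      linear_combination (k : F) * (x 0 1 * htr)
    · rw [flu_mul_apply, i10, i11]
      push_cast
      linear_combination (k : F) * (x 1 0 * htr)
    · rw [flu_mul_apply, i10, i11]
      push_cast
      linear_combination (k : F) * (-hd + x 1 1 * htr)

theorem flg_ppow_of_trace_two {p : ℕ} [Fact p.Prime] [CharP F p]
    (x : Matrix.SpecialLinearGroup (Fin 2) F) (htr : x 0 0 + x 1 1 = 2) :
    ∃ k : ℕ, orderOf x = p ^ k := by
  have hp : x ^ p = 1 := by
    obtain ⟨h00, h01, h10, h11⟩ := flg_pow_entries x htr p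
    rw [CharP.cast_eq_zero F p] at h00 h01 h10 h11
    apply flu_ext
    · rw [h00]; simp
    · rw [h01]; simp
    · rw [h10]; simp
    · rw [h11]; simp
  have hdvd : orderOf x ∣ p := orderOf_dvd_of_pow_eq_one hp
  rcases (Nat.dvd_prime (Fact.out : p.Prime)).1 hdvd with h | h
  · exact ⟨0, by rw [h, pow_zero]⟩
  · exact ⟨1, by rw [h, pow_one]⟩

theorem flg_exists_sq_add_sq [Fintype F] {p : ℕ} [Fact p.Prime] [CharP F p] (hp2 : p ≠ 2) :
    ∃ a b : F, a * a + b * b = -1 := by
  classical
  obtain ⟨n, -, hn⟩ := FiniteField.card F p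
  have hodd : Fintype.card F % 2 = 1 := by
    rw [hn]
    have hpo : Odd p := (Fact.out : p.Prime).odd_of_ne_two hp2
    exact Nat.odd_iff.1 hpo.pow
  obtain ⟨a, b, hab⟩ := FiniteField.exists_root_sum_quadratic
    (f := (Polynomial.X ^ 2 : Polynomial F)) (g := Polynomial.X ^ 2 - Polynomial.C (-1 : F))
    (Polynomial.degree_X_pow 2) (Polynomial.degree_X_pow_sub_C (by decide) _) hodd
  refine ⟨a, b, ?_⟩
  simp only [Polynomial.eval_pow, Polynomial.eval_X, Polynomial.eval_sub, Polynomial.eval_C] at hab
  linear_combination hab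

theorem flg_free_U [Fintype F] {p : ℕ} [Fact p.Prime] [CharP F p]
    (x : Matrix.SpecialLinearGroup (Fin 2) F) (hx : ¬ ∃ k : ℕ, orderOf x = p ^ k) :
    FLFree p (fluU F) x := by
  have htr : x 0 0 + x 1 1 ≠ 2 := fun h => hx (flg_ppow_of_trace_two x h)
  by_cases hsc : x 0 1 = 0 ∧ x 1 0 = 0 ∧ x 0 0 = x 1 1
  · obtain ⟨h01, h10, heq⟩ := hsc
    have hd := flu_det x
    rw [h01, ← heq] at hd
    have hx1 : x ≠ 1 := by
      intro h
      apply hx
      exact ⟨0, by rw [h, orderOf_one, pow_zero]⟩
    have h00 : x 0 0 = -1 := by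
      have h1 : (x 0 0 - 1) * (x 0 0 + 1) = 0 := by linear_combination hd
      rcases mul_eq_zero.1 h1 with h | h
      · exfalso
        apply hx1
        have h2 : x 0 0 = 1 := by linear_combination h
        apply flu_ext
        · rw [h2]; simp
        · rw [h01]; simp
        · rw [h10]; simp
        · rw [← heq, h2]; simp
      · linear_combination h
    have h11 : x 1 1 = -1 := by rw [← heq, h00]
    have hp2 : p ≠ 2 := by
      intro hp2
      apply hx1
      have h2 : (2 : F) = 0 := by
        have := CharP.cast_eq_zero F p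
        rw [hp2] at this
        exact_mod_cast this
      have hneg : (-1 : F) = 1 := by linear_combination (-1 : F) * h2
      apply flu_ext
      · rw [h00, hneg]; simp
      · rw [h01]; simp
      · rw [h10]; simp
      · rw [h11, hneg]; simp
    have h2ne : (2 : F) ≠ 0 := by
      have hF : ringChar F ≠ 2 := by rw [ringChar.eq F p]; exact hp2
      exact Ring.two_ne_zero hF
    obtain ⟨a, b, hab⟩ := flg_exists_sq_add_sq (F := F) (p := p) hp2
    have hdet2 : (!![a, b; b, -a] : Matrix (Fin 2) (Fin 2) F).det = 1 := by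
      rw [Matrix.det_fin_two]
      simp only [Matrix.of_apply, Matrix.cons_val', Matrix.cons_val_zero, Matrix.cons_val_one,
        Matrix.empty_val', Matrix.cons_val_fin_one]
      linear_combination (-1 : F) * hab
    set n₂ : Matrix.SpecialLinearGroup (Fin 2) F := ⟨!![a, b; b, -a], hdet2⟩ with hn₂
    have e00 : n₂ 0 0 = a := rfl
    have e01 : n₂ 0 1 = b := rfl
    have e10 : n₂ 1 0 = b := rfl
    have e11 : n₂ 1 1 = -a := rfl
    have hzero2 : (0 : F) + 0 ≠ 2 := by rw [add_zero]; exact fun h => h2ne h.symm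
    refine Or.inr ⟨hp2, fluW, n₂, ?_, ?_, ?_, ?_, ?_, ?_⟩
    · apply flu_ext
      · rw [h00]; simp [flu_mul_apply]
      · rw [h01]; simp [flu_mul_apply]
      · rw [h10]; simp [flu_mul_apply]
      · rw [h11]; simp [flu_mul_apply]
    · apply flu_ext
      · rw [h00, flu_mul_apply, e00, e01, e10]; linear_combination hab
      · rw [h01, flu_mul_apply, e00, e01, e11]; ring
      · rw [h10, flu_mul_apply, e00, e10, e11]; ring
      · rw [h11, flu_mul_apply, e01, e10, e11]; linear_combination hab
    · apply flu_ext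
      · rw [h00]
        simp only [flu_mul_apply, e00, e01, e10, e11, flu_W_00, flu_W_01, flu_W_10, flu_W_11]
        linear_combination hab
      · rw [h01]
        simp only [flu_mul_apply, e00, e01, e10, e11, flu_W_00, flu_W_01, flu_W_10, flu_W_11]
        ring
      · rw [h10]
        simp only [flu_mul_apply, e00, e01, e10, e11, flu_W_00, flu_W_01, flu_W_10, flu_W_11]
        ring
      · rw [h11]
        simp only [flu_mul_apply, e00, e01, e10, e11, flu_W_00, flu_W_01, flu_W_10, flu_W_11]
        linear_combination hab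
    · apply flg_good_of_nonscalar
      · rintro ⟨h, -, -⟩
        simp at h
      · simpa using hzero2
    · apply flg_good_of_nonscalar
      · rw [e00, e01, e10, e11]
        rintro ⟨hb, -, ha⟩
        have ha0 : a = 0 := by
          have : (2 : F) * a = 0 := by linear_combination ha
          rcases mul_eq_zero.1 this with h | h
          · exact absurd h h2ne
          · exact h
        rw [ha0, hb] at hab
        have : (0 : F) = -1 := by linear_combination hab
        exact absurd (by linear_combination this : (1 : F) = 0) one_ne_zero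
      · rw [e00, e11]
        intro h
        apply h2ne
        linear_combination -h
    · apply flg_good_of_nonscalar
      · simp only [flu_mul_apply, e00, e01, e10, e11, flu_W_00, flu_W_01, flu_W_10, flu_W_11]
        rintro ⟨ha, -, hb⟩
        have ha0 : a = 0 := by linear_combination -ha
        have hb0 : b = 0 := by
          have : (2 : F) * b = 0 := by linear_combination hb
          rcases mul_eq_zero.1 this with h | h
          · exact absurd h h2ne
          · exact h
        rw [ha0, hb0] at hab
        have : (0 : F) = -1 := by linear_combination hab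
        exact absurd (by linear_combination this : (1 : F) = 0) one_ne_zero
      · simp only [flu_mul_apply, e00, e01, e10, e11, flu_W_00, flu_W_01, flu_W_10, flu_W_11]
        intro h
        apply h2ne
        linear_combination -h
  · exact Or.inl (flg_good_of_nonscalar x hsc htr)

/-- `FLFree` for every non-`p`-element of `SL₂(F)` and every subgroup of order `|F|`. -/
theorem flg_sl2_free [Fintype F] {p : ℕ} [Fact p.Prime] [CharP F p]
    (E : Subgroup (Matrix.SpecialLinearGroup (Fin 2) F)) (hE : Nat.card E = Fintype.card F)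
    (x : Matrix.SpecialLinearGroup (Fin 2) F) (hx : ¬ ∃ k : ℕ, orderOf x = p ^ k) :
    FLFree p E x := by
  obtain ⟨c, rfl⟩ := flu_sl2_line (p := p) E hE
  exact (flg_free_U x hx).conj c

end Cfsg.Agent.FrakL
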