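import Cfsg.Agent.FrakL.Conj

/-!
# 𝔏_G(Y_M) lemmas: `SL₂(F)` in standard form

A subgroup of `SL₂(F)` of order `|F|` is a conjugate of the upper unitriangular group `fluU F`;
the normalizer of (a conjugate of) `fluU F`.
-/

set_option autoImplicit false

namespace Cfsg.Agent.FrakL

section SL2

open Matrix

variable {F : Type*} [Field F]

/-- The upper unitriangular matrix with off-diagonal entry `t`. -/
def fluUp (t : F) : Matrix.SpecialLinearGroup (Fin 2) F :=
  ⟨!![1, t; 0, 1], by simp [Matrix.det_fin_two]⟩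

/-- The lower unitriangular matrix with off-diagonal entry `t`. -/
def fluLo (t : F) : Matrix.SpecialLinearGroup (Fin 2) F :=
  ⟨!![1, 0; t, 1], by simp [Matrix.det_fin_two]⟩

/-- The Weyl element. -/
def fluW : Matrix.SpecialLinearGroup (Fin 2) F :=
  ⟨!![0, 1; -1, 0], by simp [Matrix.det_fin_two]⟩

theorem flu_mul_apply (A B : Matrix.SpecialLinearGroup (Fin 2) F) (i j : Fin 2) :
    (A * B) i j = A i 0 * B 0 j + A i 1 * B 1 j := by
  rw [Matrix.SpecialLinearGroup.coe_mul, Matrix.mul_apply, Fin.sum_univ_two]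

theorem flu_det (A : Matrix.SpecialLinearGroup (Fin 2) F) :
    A 0 0 * A 1 1 - A 0 1 * A 1 0 = 1 := by
  have h := A.2
  rw [Matrix.det_fin_two] at h
  exact h

theorem flu_inv_00 (A : Matrix.SpecialLinearGroup (Fin 2) F) : A⁻¹ 0 0 = A 1 1 := by
  rw [Matrix.SpecialLinearGroup.coe_inv, Matrix.adjugate_fin_two]; simp

theorem flu_inv_01 (A : Matrix.SpecialLinearGroup (Fin 2) F) : A⁻¹ 0 1 = -A 0 1 := by
  rw [Matrix.SpecialLinearGroup.coe_inv, Matrix.adjugate_fin_two]; simp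

theorem flu_inv_10 (A : Matrix.SpecialLinearGroup (Fin 2) F) : A⁻¹ 1 0 = -A 1 0 := by
  rw [Matrix.SpecialLinearGroup.coe_inv, Matrix.adjugate_fin_two]; simp

theorem flu_inv_11 (A : Matrix.SpecialLinearGroup (Fin 2) F) : A⁻¹ 1 1 = A 0 0 := by
  rw [Matrix.SpecialLinearGroup.coe_inv, Matrix.adjugate_fin_two]; simp

theorem flu_ext {A B : Matrix.SpecialLinearGroup (Fin 2) F} (h00 : A 0 0 = B 0 0)
    (h01 : A 0 1 = B 0 1) (h10 : A 1 0 = B 1 0) (h11 : A 1 1 = B 1 1) : A = B := by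
  apply Matrix.SpecialLinearGroup.ext
  intro i j
  fin_cases i <;> fin_cases j
  · exact h00
  · exact h01
  · exact h10
  · exact h11

@[simp] theorem flu_up_00 (t : F) : fluUp t 0 0 = 1 := rfl
@[simp] theorem flu_up_01 (t : F) : fluUp t 0 1 = t := rfl
@[simp] theorem flu_up_10 (t : F) : fluUp t 1 0 = 0 := rfl
@[simp] theorem flu_up_11 (t : F) : fluUp t 1 1 = 1 := rfl
@[simp] theorem flu_lo_00 (t : F) : fluLo t 0 0 = 1 := rfl
@[simp] theorem flu_lo_01 (t : F) : fluLo t 0 1 = 0 := rfl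
@[simp] theorem flu_lo_10 (t : F) : fluLo t 1 0 = t := rfl
@[simp] theorem flu_lo_11 (t : F) : fluLo t 1 1 = 1 := rfl
@[simp] theorem flu_W_00 : (fluW : Matrix.SpecialLinearGroup (Fin 2) F) 0 0 = 0 := rfl
@[simp] theorem flu_W_01 : (fluW : Matrix.SpecialLinearGroup (Fin 2) F) 0 1 = 1 := rfl
@[simp] theorem flu_W_10 : (fluW : Matrix.SpecialLinearGroup (Fin 2) F) 1 0 = -1 := rfl
@[simp] theorem flu_W_11 : (fluW : Matrix.SpecialLinearGroup (Fin 2) F) 1 1 = 0 := rfl

theorem flu_up_add (t u : F) : fluUp (t + u) = fluUp t * fluUp u := by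
  apply flu_ext <;> simp [flu_mul_apply, add_comm]

theorem flu_up_zero : fluUp (0 : F) = 1 := by
  apply flu_ext <;> simp

theorem flu_up_neg (t : F) : fluUp (-t) = (fluUp t)⁻¹ := by
  rw [eq_inv_iff_mul_eq_one, ← flu_up_add, neg_add_cancel, flu_up_zero]

theorem flu_lo_eq (t : F) : fluLo t = fluW * fluUp (-t) * fluW⁻¹ := by
  apply flu_ext <;> simp [flu_mul_apply, flu_inv_00, flu_inv_01, flu_inv_10, flu_inv_11]

variable (F) in
/-- The group of upper unitriangular matrices. -/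
def fluU : Subgroup (Matrix.SpecialLinearGroup (Fin 2) F) where
  carrier := {g | g 1 0 = 0 ∧ g 0 0 = 1}
  one_mem' := by
    refine ⟨?_, ?_⟩ <;> simp
  mul_mem' := by
    rintro A B ⟨hA1, hA0⟩ ⟨hB1, hB0⟩
    refine ⟨?_, ?_⟩
    · have hA11 : A 1 0 = 0 := hA1
      have hB11 : B 1 0 = 0 := hB1
      rw [flu_mul_apply, hA11, hB11]; ring
    · have hA11 : A 0 0 = 1 := hA0
      have hB10 : B 1 0 = 0 := hB1
      have hB11 : B 0 0 = 1 := hB0
      rw [flu_mul_apply, hA11, hB11, hB10]; ring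
  inv_mem' := by
    rintro A ⟨hA1, hA0⟩
    have hA10 : A 1 0 = 0 := hA1
    have hA00 : A 0 0 = 1 := hA0
    refine ⟨?_, ?_⟩
    · change A⁻¹ 1 0 = 0
      rw [flu_inv_10, hA10, neg_zero]
    · change A⁻¹ 0 0 = 1
      rw [flu_inv_00]
      have h := flu_det A
      rw [hA10, hA00] at h
      linear_combination h

theorem flu_mem_U_iff' (g : Matrix.SpecialLinearGroup (Fin 2) F) :
    g ∈ fluU F ↔ g 1 0 = 0 ∧ g 0 0 = 1 := Iff.rfl

theorem flu_U_11 {g : Matrix.SpecialLinearGroup (Fin 2) F} (hg : g ∈ fluU F) : g 1 1 = 1 := by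
  obtain ⟨h1, h0⟩ := (flu_mem_U_iff' g).1 hg
  have h := flu_det g
  rw [h1, h0] at h
  linear_combination h

theorem flu_up_mem (t : F) : fluUp t ∈ fluU F := ⟨rfl, rfl⟩

theorem flu_mem_U_iff (g : Matrix.SpecialLinearGroup (Fin 2) F) :
    g ∈ fluU F ↔ ∃ t, g = fluUp t := by
  constructor
  · intro hg
    obtain ⟨h1, h0⟩ := (flu_mem_U_iff' g).1 hg
    refine ⟨g 0 1, ?_⟩
    apply flu_ext
    · rw [h0]; rfl
    · rfl
    · rw [h1]; rfl
    · rw [flu_U_11 hg]; rfl
  · rintro ⟨t, rfl⟩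
    exact flu_up_mem t

theorem flu_card_U [Fintype F] : Nat.card (fluU F) = Fintype.card F := by
  rw [← Nat.card_eq_fintype_card]
  symm
  apply Nat.card_congr
  refine Equiv.ofBijective (fun t => (⟨fluUp t, flu_up_mem t⟩ : fluU F)) ⟨?_, ?_⟩
  · intro t u h
    have h1 : fluUp t = fluUp u := congrArg Subtype.val h
    have h2 : fluUp t 0 1 = fluUp u 0 1 := by rw [h1]
    simpa using h2
  · rintro ⟨g, hg⟩
    obtain ⟨t, rfl⟩ := (flu_mem_U_iff g).1 hg
    exact ⟨t, rfl⟩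

theorem flu_conj_mem_U {g h : Matrix.SpecialLinearGroup (Fin 2) F} (hg : g 1 0 = 0)
    (hh : h ∈ fluU F) : g * h * g⁻¹ ∈ fluU F := by
  obtain ⟨h1, h0⟩ := (flu_mem_U_iff' h).1 hh
  have h11 := flu_U_11 hh
  have hd := flu_det g
  rw [hg] at hd
  refine ⟨?_, ?_⟩
  · change (g * h * g⁻¹) 1 0 = 0
    rw [flu_mul_apply, flu_mul_apply, flu_mul_apply, flu_inv_00, flu_inv_10, hg, h1, h0, h11]
    ring
  · change (g * h * g⁻¹) 0 0 = 1
    rw [flu_mul_apply, flu_mul_apply, flu_mul_apply, flu_inv_00, flu_inv_10, hg, h1, h0, h11]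
    linear_combination hd

theorem flu_mem_normalizer_U (g : Matrix.SpecialLinearGroup (Fin 2) F) :
    g ∈ Subgroup.normalizer ((fluU F : Subgroup (Matrix.SpecialLinearGroup (Fin 2) F)) :
      Set (Matrix.SpecialLinearGroup (Fin 2) F)) ↔ g 1 0 = 0 := by
  rw [Subgroup.mem_normalizer_iff]
  constructor
  · intro h
    have h1 : g * fluUp 1 * g⁻¹ ∈ fluU F := (h (fluUp 1)).1 (flu_up_mem 1)
    have h2 : (g * fluUp (1 : F) * g⁻¹ : Matrix.SpecialLinearGroup (Fin 2) F) 1 0 = 0 := h1.1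
    rw [flu_mul_apply, flu_mul_apply, flu_mul_apply, flu_inv_00, flu_inv_10] at h2
    simp only [flu_up_00, flu_up_01, flu_up_10, flu_up_11] at h2
    have h3 : g 1 0 * g 1 0 = 0 := by linear_combination -h2
    exact mul_self_eq_zero.1 h3
  · intro hg h
    constructor
    · intro hh
      exact flu_conj_mem_U hg hh
    · intro hh
      have hg' : g⁻¹ 1 0 = 0 := by rw [flu_inv_10, hg, neg_zero]
      have := flu_conj_mem_U hg' hh
      have e : g⁻¹ * (g * h * g⁻¹) * g⁻¹⁻¹ = h := by group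
      rw [e] at this
      exact this

theorem flu_mem_normalizer_conj (c g : Matrix.SpecialLinearGroup (Fin 2) F) :
    g ∈ Subgroup.normalizer ((flConj (fluU F) c : Subgroup (Matrix.SpecialLinearGroup (Fin 2) F)) :
      Set (Matrix.SpecialLinearGroup (Fin 2) F)) ↔ (c⁻¹ * g * c) 1 0 = 0 := by
  rw [flc_mem_normalizer_flConj_iff, flu_mem_normalizer_U]

theorem flu_smul_e0 (h : Matrix.SpecialLinearGroup (Fin 2) F) :
    h • (![1, 0] : Fin 2 → F) = ![h 0 0, h 1 0] := by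
  rw [Matrix.SpecialLinearGroup.smul_def, Matrix.smul_eq_mulVec]
  ext i
  fin_cases i <;> simp [Matrix.mulVec, dotProduct, Fin.sum_univ_two]

theorem flu_smul_e0' (h : Matrix.SpecialLinearGroup (Fin 2) F) (v : Fin 2 → F)
    (h0 : h 0 0 = v 0) (h1 : h 1 0 = v 1) : h • (![1, 0] : Fin 2 → F) = v := by
  rw [flu_smul_e0]
  ext i
  fin_cases i
  · exact h0
  · exact h1

theorem flu_exists_col (v : Fin 2 → F) (hv : v ≠ 0) :
    ∃ c : Matrix.SpecialLinearGroup (Fin 2) F, c • (![1, 0] : Fin 2 → F) = v := by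
  by_cases h0 : v 0 = 0
  · have h1 : v 1 ≠ 0 := by
      intro h1
      apply hv
      ext i
      fin_cases i
      · exact h0
      · exact h1
    exact ⟨⟨!![0, -(v 1)⁻¹; v 1, 0], by simp [Matrix.det_fin_two, h1]⟩,
      flu_smul_e0' _ _ h0.symm rfl⟩
  · exact ⟨⟨!![v 0, 0; v 1, (v 0)⁻¹], by simp [Matrix.det_fin_two, h0]⟩,
      flu_smul_e0' _ _ rfl rfl⟩

/-- A subgroup of `SL₂(F)` of order `|F|` is a conjugate of the upper unitriangular group. -/
theorem flu_sl2_line [Fintype F] {p : ℕ} [Fact p.Prime] [CharP F p]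
    (E : Subgroup (Matrix.SpecialLinearGroup (Fin 2) F)) (hE : Nat.card E = Fintype.card F) :
    ∃ c : Matrix.SpecialLinearGroup (Fin 2) F, E = flConj (fluU F) c := by
  classical
  obtain ⟨n, -, hn⟩ := FiniteField.card F p
  have hEp : IsPGroup p E := IsPGroup.of_card (n := n) (by rw [hE, hn])
  have hdvd : p ∣ Nat.card (Fin 2 → F) := by
    rw [Nat.card_eq_fintype_card, Fintype.card_fun, Fintype.card_fin, hn]
    exact dvd_pow (dvd_pow_self p n.ne_zero) two_ne_zero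
  have h0 : (0 : Fin 2 → F) ∈ MulAction.fixedPoints E (Fin 2 → F) := by
    intro g
    rw [Subgroup.smul_def]
    exact smul_zero _
  obtain ⟨v, hv, hv0⟩ :=
    hEp.exists_fixed_point_of_prime_dvd_card_of_fixed_point (Fin 2 → F) hdvd h0
  obtain ⟨c, hc⟩ := flu_exists_col v (Ne.symm hv0)
  refine ⟨c, ?_⟩
  have hle : E ≤ flConj (fluU F) c := by
    intro g hg
    rw [flc_mem_flConj_iff]
    have hgv : g • v = v := hv ⟨g, hg⟩
    have h1 : (c⁻¹ * g * c) • (![1, 0] : Fin 2 → F) = ![1, 0] := by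
      rw [mul_smul, mul_smul, hc, hgv, ← hc, inv_smul_smul]
    rw [flu_smul_e0] at h1
    have h00 := congrFun h1 0
    have h10 := congrFun h1 1
    simp only [Matrix.cons_val_zero, Matrix.cons_val_one] at h00 h10
    exact ⟨h10, h00⟩
  apply Subgroup.eq_of_le_of_card_ge hle
  rw [hE, Subgroup.card_map_of_injective (MulAut.conj c).injective, flu_card_U]

end SL2

end Cfsg.Agent.FrakL
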