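import Cfsg.Agent.FrakL.SL2Std

/-!
# 𝔏_G(Y_M) lemmas: `FLUniq` for a subgroup of order `|F|` of `SL₂(F)`
-/

set_option autoImplicit false

namespace Cfsg.Agent.FrakL

open Matrix

variable {F : Type*} [Field F]

/-- The diagonal matrix `diag(m, m⁻¹)`. -/
def fluD (m : F) (hm : m ≠ 0) : Matrix.SpecialLinearGroup (Fin 2) F :=
  ⟨!![m, 0; 0, m⁻¹], by simp [Matrix.det_fin_two, hm]⟩

@[simp] theorem flu_D_00 (m : F) (hm : m ≠ 0) : fluD m hm 0 0 = m := rfl
@[simp] theorem flu_D_01 (m : F) (hm : m ≠ 0) : fluD m hm 0 1 = 0 := rfl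
@[simp] theorem flu_D_10 (m : F) (hm : m ≠ 0) : fluD m hm 1 0 = 0 := rfl
@[simp] theorem flu_D_11 (m : F) (hm : m ≠ 0) : fluD m hm 1 1 = m⁻¹ := rfl

theorem flu_D_conj (m : F) (hm : m ≠ 0) (t : F) :
    fluD m hm * fluUp t * (fluD m hm)⁻¹ = fluUp (m * m * t) := by
  apply flu_ext <;>
    simp [flu_mul_apply, flu_inv_00, flu_inv_01, flu_inv_10, flu_inv_11, hm]
  ring

theorem flu_pow_apply (g : Matrix.SpecialLinearGroup (Fin 2) F) (hg : g 1 0 = 0) (k : ℕ) :
    (g ^ k) 1 0 = 0 ∧ (g ^ k) 0 0 = (g 0 0) ^ k := by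
  induction k with
  | zero => simp
  | succ k ih =>
    obtain ⟨ih1, ih0⟩ := ih
    rw [pow_succ]
    refine ⟨?_, ?_⟩
    · rw [flu_mul_apply, ih1, hg]; ring
    · rw [flu_mul_apply, ih0, hg]; ring

theorem flu_uniq_U [Fintype F] {p : ℕ} [Fact p.Prime] [CharP F p] : FLUniq p (fluU F) := by
  intro N hEN hNn hmax V hVN hNV hVab hVp hV1
  -- the Borel subgroup lies in `N`
  have hB : ∀ g : Matrix.SpecialLinearGroup (Fin 2) F, g 1 0 = 0 → g ∈ N := by
    intro g hg
    have h1 : Subgroup.normalizer ((fluU F : Subgroup (Matrix.SpecialLinearGroup (Fin 2) F)) :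
        Set (Matrix.SpecialLinearGroup (Fin 2) F)) ≤ N := by
      apply hmax
      · exact Subgroup.le_normalizer
      · intro htop
        have h2 : fluLo (1 : F) ∈ Subgroup.normalizer
            ((fluU F : Subgroup (Matrix.SpecialLinearGroup (Fin 2) F)) :
              Set (Matrix.SpecialLinearGroup (Fin 2) F)) := by
          rw [htop]; exact Subgroup.mem_top _
        rw [flu_mem_normalizer_U] at h2
        simp at h2
    exact h1 ((flu_mem_normalizer_U g).2 hg)
  -- `V ≤ U`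
  have hVU : V ≤ fluU F := by
    intro v hv
    have h10 : v 1 0 = 0 := (flu_mem_normalizer_U v).1 (hNn (hVN hv))
    have hp := hVp v hv
    have h00 := (flu_pow_apply v h10 p).2
    rw [hp] at h00
    have h1 : (v 0 0) ^ p = 1 := by rw [← h00]; simp
    have h2 : v 0 0 = 1 := by
      apply frobenius_inj F p
      rw [frobenius_def, frobenius_def, h1, one_pow]
    exact ⟨h10, h2⟩
  -- a nontrivial element of `V`
  obtain ⟨t₀, ht₀, hv₀⟩ : ∃ t₀ : F, t₀ ≠ 0 ∧ fluUp t₀ ∈ V := by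
    by_contra hcon
    push Not at hcon
    apply hV1
    rw [Subgroup.eq_bot_iff_forall]
    intro v hv
    obtain ⟨t, rfl⟩ := (flu_mem_U_iff v).1 (hVU hv)
    by_cases ht : t = 0
    · rw [ht, flu_up_zero]
    · exact absurd hv (hcon t ht)
  have hzero : fluUp (0 : F) ∈ V := by rw [flu_up_zero]; exact V.one_mem
  have hadd : ∀ t u : F, fluUp t ∈ V → fluUp u ∈ V → fluUp (t + u) ∈ V := by
    intro t u ht hu
    rw [flu_up_add]; exact V.mul_mem ht hu
  have hneg : ∀ t : F, fluUp t ∈ V → fluUp (-t) ∈ V := by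
    intro t ht
    rw [flu_up_neg]; exact V.inv_mem ht
  have hsq : ∀ m t : F, fluUp t ∈ V → fluUp (m * m * t) ∈ V := by
    intro m t ht
    by_cases hm : m = 0
    · rw [hm, zero_mul, zero_mul]; exact hzero
    · have h1 : fluD m hm ∈ Subgroup.normalizer ((V : Subgroup _) : Set _) :=
        hNV (hB _ (by simp))
      rw [← flu_D_conj m hm t]
      exact (Subgroup.mem_normalizer_iff.1 h1 _).1 ht
  have hall : ∀ s : F, fluUp (s * t₀) ∈ V := by
    intro s
    by_cases hp2 : p = 2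
    · have hF : ringChar F = 2 := by rw [← hp2]; exact ringChar.eq F p
      obtain ⟨r, hr⟩ := FiniteField.isSquare_of_char_two hF s
      rw [hr]
      exact hsq r t₀ hv₀
    · have hF : ringChar F ≠ 2 := by rw [ringChar.eq F p]; exact hp2
      have h2 : (2 : F) ≠ 0 := Ring.two_ne_zero hF
      have e : s * t₀ = ((s + 1) / 2) * ((s + 1) / 2) * t₀ + -(((s - 1) / 2) * ((s - 1) / 2) * t₀) := by
        field_simp
        ring
      rw [e]
      exact hadd _ _ (hsq _ _ hv₀) (hneg _ (hsq _ _ hv₀))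
  apply le_antisymm hVU
  intro g hg
  obtain ⟨t, rfl⟩ := (flu_mem_U_iff g).1 hg
  have := hall (t / t₀)
  rw [div_mul_cancel₀ t ht₀] at this
  exact this

theorem fl_sl2_uniq [Fintype F] {p : ℕ} [Fact p.Prime] [CharP F p]
    (E : Subgroup (Matrix.SpecialLinearGroup (Fin 2) F)) (hE : Nat.card E = Fintype.card F) :
    FLUniq p E := by
  obtain ⟨c, rfl⟩ := flu_sl2_line (p := p) E hE
  exact flu_uniq_U.conj c

end Cfsg.Agent.FrakL
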