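import Mathlib
import Cfsg.Agent.FrakL.Conj
import Cfsg.Agent.Helper8.SzSolG
import Cfsg.Agent.Helper7.SzLie

set_option autoImplicit false
set_option linter.unusedSectionVars false
set_option linter.unusedVariables false

/-!
# 𝔏_G(Y_M) lemmas (S2861, S2863): the Suzuki groups (helper8)

For `Γ = Sz(F)`, `|F| = 2^(2m+1)`, `m ≥ 1`, and an elementary abelian subgroup `E` of order `|F|` (a conjugate of the
centre of a Sylow `2`-subgroup): every element which is not a `2`-element is a product of two involutions of two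
conjugates of `E` not normalizing each other (`fl_sz_free`), and `E` is the unique nontrivial normal elementary
abelian `2`-subgroup of its normalizer (`fl_sz_uniq`).
-/

namespace Cfsg.Agent.FrakL

open Cfsg.Agent.Helper7.Sz Cfsg.Agent.Helper7 MulAction Cfsg.Agent.Helper8.SzPart
  Cfsg.Agent.Helper8.SzSub Cfsg.Agent.Helper8.SzTI Cfsg.Agent.Helper8.LS Cfsg.Agent.Helper8.SzMax
  Cfsg.Agent.Helper8.SzSol Cfsg.Agent.Helper7.SzLie

variable {F : Type*} [Field F] [Fintype F] {m : ℕ}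

/-- the centre of the standard Sylow `2`-subgroup. -/
def flzZ (h : FH F m) : Subgroup (Cfsg.Sz F m) := (zetaHom h).range

theorem flz_mem_Z (h : FH F m) (g : Cfsg.Sz F m) : g ∈ flzZ h ↔ ∃ b : F, g = TelS h 0 b := by
  constructor
  · rintro ⟨b, rfl⟩
    exact ⟨b.toAdd, rfl⟩
  · rintro ⟨b, rfl⟩
    exact ⟨Multiplicative.ofAdd b, rfl⟩

theorem flz_card_Z (h : FH F m) : Nat.card (flzZ h) = Fintype.card F := by
  have e := (MonoidHom.ofInjective (zetaHom_injective h)).toEquiv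
  rw [flzZ, ← Nat.card_congr e, ← Nat.card_eq_fintype_card]
  exact Nat.card_congr Multiplicative.toAdd

theorem flz_sq_Z (h : FH F m) {g : Cfsg.Sz F m} (hg : g ∈ flzZ h) : g * g = 1 := by
  obtain ⟨b, rfl⟩ := (flz_mem_Z h g).1 hg
  exact TelS_zero_sq h b

/-- elements of a conjugate of `Z` square to one. -/
theorem flz_sq_conj (h : FH F m) {c g : Cfsg.Sz F m} (hg : g ∈ flConj (flzZ h) c) : g * g = 1 := by
  rw [flc_mem_flConj_iff] at hg
  have h1 := flz_sq_Z h hg
  have e : g * g = c * ((c⁻¹ * g * c) * (c⁻¹ * g * c)) * c⁻¹ := by group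
  rw [e, h1]
  group

/-- an elementary abelian subgroup of order `q` is a conjugate of `Z`. -/
theorem flz_exists_conj (h : FH F m) (E : Subgroup (Cfsg.Sz F m)) (hE : Nat.card E = Fintype.card F)
    (hE2 : ∀ a ∈ E, a * a = 1) : ∃ g : Cfsg.Sz F m, E = flConj (flzZ h) g := by
  have : Fact (Nat.Prime 2) := ⟨Nat.prime_two⟩
  have hfin : Finite E := Nat.finite_of_card_ne_zero (by rw [hE]; exact Fintype.card_ne_zero)
  -- an involution of `E`
  have h1 : 1 < Nat.card E := by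
    rw [hE, h.card]
    exact Nat.one_lt_two_pow (by omega)
  rw [Finite.one_lt_card_iff_nontrivial] at h1
  obtain ⟨s, hs⟩ := exists_ne (1 : E)
  have hs1 : (s : Cfsg.Sz F m) ≠ 1 := fun e => hs (Subtype.ext e)
  have hs2 : (s : Cfsg.Sz F m) * s = 1 := hE2 s s.2
  obtain ⟨g, hg⟩ := exists_conj_tau h hs1 hs2
  -- the conjugate `E' = g E g⁻¹` contains `tau`
  have htau : TelS h 0 1 ∈ flConj E g := by
    rw [flc_mem_flConj_iff]
    have e : g⁻¹ * TelS h 0 1 * g = s := by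
      have : TelS h 0 1 = g * s * g⁻¹ := hg.symm
      rw [this]; group
    rw [e]; exact s.2
  have hsq' : ∀ a ∈ flConj E g, a * a = 1 := by
    intro a ha
    rw [flc_mem_flConj_iff] at ha
    have h1 := hE2 _ ha
    have e : a * a = g * ((g⁻¹ * a * g) * (g⁻¹ * a * g)) * g⁻¹ := by group
    rw [e, h1]; group
  have hp : IsPGroup 2 (flConj E g) := by
    intro a
    refine ⟨1, ?_⟩
    apply Subtype.ext
    rw [pow_one, pow_two, Subgroup.coe_mul, hsq' a a.2, Subgroup.coe_one]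
  have hle : flConj E g ≤ Usub h := le_Usub_of_two_group h _ hp one_ne_zero htau
  have hleZ : flConj E g ≤ flzZ h := by
    intro a ha
    obtain ⟨a₁, b₁, rfl⟩ := (mem_Usub h a).1 (hle ha)
    rw [eq_zeta_of_sq h (hsq' _ ha)]
    exact ⟨_, rfl⟩
  have hcard : Nat.card (flConj E g) = Nat.card E := by
    have hinj : Function.Injective (MulAut.conj g).toMonoidHom := (MulAut.conj g).injective
    exact Nat.card_congr (E.equivMapOfInjective _ hinj).toEquiv.symm
  have hfinZ : Finite (flzZ h) :=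
    Nat.finite_of_card_ne_zero (by rw [flz_card_Z]; exact Fintype.card_ne_zero)
  have heq : flConj E g = flzZ h := by
    apply Subgroup.eq_of_le_of_card_ge hleZ
    rw [hcard, hE, flz_card_Z]
  refine ⟨g⁻¹, ?_⟩
  rw [← heq, flConj_flConj, inv_mul_cancel]
  ext y
  rw [flc_mem_flConj_iff]
  simp

/-- the normalizer of `Z` fixes the point at infinity. -/
theorem flz_normalizer_fix (h : FH F m) {n : Cfsg.Sz F m}
    (hn : n ∈ Subgroup.normalizer ((flzZ h : Subgroup (Cfsg.Sz F m)) : Set (Cfsg.Sz F m))) :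
    n • (ωinf m : Cfsg.suzukiOvoid F m) = ωinf m := by
  have h1 : TelS h 0 1 ∈ flzZ h := (flz_mem_Z h _).2 ⟨1, rfl⟩
  have h2 : n * TelS h 0 1 * n⁻¹ ∈ flzZ h := (Subgroup.mem_normalizer_iff.1 hn _).1 h1
  obtain ⟨b, hb⟩ := (flz_mem_Z h _).1 h2
  have hb0 : b ≠ 0 := by
    rintro rfl
    rw [TelS_zero] at hb
    exact conj_ne_one (TelS_zero_ne_one h one_ne_zero) n hb
  have h3 : (n * TelS h 0 1 * n⁻¹) • (n • (ωinf m : Cfsg.suzukiOvoid F m)) = n • ωinf m :=
    conj_smul (TelS_smul_inf h 0 1)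
  rw [hb] at h3
  exact TelS_zero_fix h hb0 h3

/-- an involution normalizing `Z` lies in `Z`. -/
theorem flz_inv_mem (h : FH F m) {s : Cfsg.Sz F m} (hs1 : s ≠ 1) (hs2 : s * s = 1)
    (hn : s ∈ Subgroup.normalizer ((flzZ h : Subgroup (Cfsg.Sz F m)) : Set (Cfsg.Sz F m))) :
    s ∈ flzZ h := by
  obtain ⟨x, -, rfl⟩ := involution_fix_inf h hs1 hs2 (flz_normalizer_fix h hn)
  exact (flz_mem_Z h _).2 ⟨x, rfl⟩

/-- every involution lies in a conjugate of `Z`. -/
theorem flz_inv_conj (h : FH F m) {s : Cfsg.Sz F m} (hs1 : s ≠ 1) (hs2 : s * s = 1) :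
    ∃ c : Cfsg.Sz F m, s ∈ flConj (flzZ h) c := by
  obtain ⟨g, hg⟩ := exists_conj_tau h hs1 hs2
  refine ⟨g⁻¹, ?_⟩
  rw [flc_mem_flConj_iff, inv_inv, hg]
  exact (flz_mem_Z h _).2 ⟨1, rfl⟩

/-- an involution normalizing a conjugate of `Z` lies in it. -/
theorem flz_inv_mem_conj (h : FH F m) {s c : Cfsg.Sz F m} (hs1 : s ≠ 1) (hs2 : s * s = 1)
    (hn : s ∈ Subgroup.normalizer ((flConj (flzZ h) c : Subgroup (Cfsg.Sz F m)) : Set (Cfsg.Sz F m))) :
    s ∈ flConj (flzZ h) c := by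
  rw [flc_mem_normalizer_flConj_iff] at hn
  rw [flc_mem_flConj_iff]
  refine flz_inv_mem h ?_ ?_ hn
  · intro e
    apply hs1
    have : s = c * (c⁻¹ * s * c) * c⁻¹ := by group
    rw [this, e]; group
  · have e : c⁻¹ * s * c * (c⁻¹ * s * c) = c⁻¹ * (s * s) * c := by group
    rw [e, hs2]; group

theorem flz_not_two_of_sq {G : Type*} [Group G] {x : G} (hx : ¬ ∃ k : ℕ, orderOf x = 2 ^ k)
    (h2 : x * x = 1) : False := by
  have hd : orderOf x ∣ 2 := orderOf_dvd_of_pow_eq_one (by rw [pow_two, h2])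
  rcases (Nat.dvd_prime Nat.prime_two).1 hd with e | e
  · exact hx ⟨0, by rw [e, pow_zero]⟩
  · exact hx ⟨1, by rw [e, pow_one]⟩

/-- every element which is not a `2`-element is good for `Z`. -/
theorem flz_good_Z (h : FH F m) {x : Cfsg.Sz F m} (hx : ¬ ∃ k : ℕ, orderOf x = 2 ^ k) :
    FLGood (flzZ h) x := by
  have : Fact (Nat.Prime 2) := ⟨Nat.prime_two⟩
  have hx1 : x ≠ 1 := by
    rintro rfl
    exact hx ⟨0, by rw [orderOf_one, pow_zero]⟩
  obtain ⟨U, ⟨hU, hxU⟩, -⟩ := partition h x hx1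
  rcases hU with ⟨P, rfl⟩ | hU
  · exfalso
    obtain ⟨k, hk⟩ := (IsPGroup.iff_orderOf.1 P.isPGroup') ⟨x, hxU⟩
    apply hx
    refine ⟨k, ?_⟩
    rw [← hk]
    exact (Subgroup.orderOf_mk x hxU).symm
  · have hU' : IsCyc m U := hU
    obtain ⟨s, hsN, hsU, hs2U⟩ := exists_mem_invSet h hU'
    have hs2 : s * s = 1 := sq_eq_one_of_sq_mem h hU' hsN hsU hs2U
    have hinv : s * x * s⁻¹ = x⁻¹ := inverts_of_sq_mem h hU' hsN hsU hs2U hxU
    have hsinv : s⁻¹ = s := inv_eq_of_mul_eq_one_right hs2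
    have hs1 : s ≠ 1 := by
      rintro rfl
      exact hsU U.one_mem
    rw [hsinv] at hinv
    have ht2 : s * x * (s * x) = 1 := by
      have e : s * x * (s * x) = (s * x * s) * x := by group
      rw [e, hinv, inv_mul_cancel]
    have ht1 : s * x ≠ 1 := by
      intro e
      apply hsU
      have : x = s := by
        have : x = s⁻¹ * (s * x) := by group
        rw [this, e, mul_one, hsinv]
      rw [← this]; exact hxU
    have hxst : x = s * (s * x) := by rw [← mul_assoc, hs2, one_mul]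
    obtain ⟨c₁, hc₁⟩ := flz_inv_conj h hs1 hs2
    obtain ⟨c₂, hc₂⟩ := flz_inv_conj h ht1 ht2
    refine ⟨c₁, c₂, s, s * x, hc₁, hc₂, hxst, ?_, ?_⟩
    · intro hn
      have h1 := flz_inv_mem_conj h hs1 hs2 hn
      have h2 : x ∈ flConj (flzZ h) c₂ := by
        rw [hxst]; exact Subgroup.mul_mem _ h1 hc₂
      exact flz_not_two_of_sq hx (flz_sq_conj h h2)
    · intro hn
      have h1 := flz_inv_mem_conj h ht1 ht2 hn
      have h2 : x ∈ flConj (flzZ h) c₁ := by
        rw [hxst]; exact Subgroup.mul_mem _ hc₁ h1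
      exact flz_not_two_of_sq hx (flz_sq_conj h h2)

/-- `Z` is the unique nontrivial normal elementary abelian `2`-subgroup of its normalizer. -/
theorem flz_uniq_Z (h : FH F m) : FLUniq 2 (flzZ h) := by
  intro N hEN hNn hmax V hVN hNV hVab hVp hV1
  -- `N` contains the stabilizer of the point at infinity
  have hB : stabilizer (Cfsg.Sz F m) (ωinf m : Cfsg.suzukiOvoid F m) ≤ N := by
    apply hmax _ _ (stabilizer_ne_top h _)
    intro g hg
    obtain ⟨b, rfl⟩ := (flz_mem_Z h g).1 hg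
    exact TelS_smul_inf h 0 b
  -- `V ≤ Z`
  have hVZ : V ≤ flzZ h := by
    intro v hv
    have hfix := flz_normalizer_fix h (hNn (hVN hv))
    have hv2 : v ^ 2 ^ 1 = 1 := by rw [pow_one]; exact hVp v hv
    obtain ⟨a, b, rfl⟩ := (mem_Usub h v).1 (two_elt_mem_Usub h hfix hv2)
    have hsq : TelS h a b * TelS h a b = 1 := by rw [← pow_two]; exact hVp _ hv
    rw [eq_zeta_of_sq h hsq]
    exact ⟨_, rfl⟩
  apply le_antisymm hVZ
  -- a nonidentity element of `V`
  obtain ⟨⟨v, hv⟩, hv1'⟩ := Subgroup.ne_bot_iff_exists_ne_one.1 hV1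
  have hv1 : v ≠ 1 := fun e => hv1' (Subtype.ext e)
  obtain ⟨x, rfl⟩ := (flz_mem_Z h v).1 (hVZ hv)
  have hx0 : x ≠ 0 := by
    rintro rfl
    exact hv1 (TelS_zero h)
  intro g hg
  obtain ⟨y, rfl⟩ := (flz_mem_Z h g).1 hg
  by_cases hy : y = 0
  · rw [hy, TelS_zero]; exact V.one_mem
  · have hc : y * x⁻¹ ≠ 0 := mul_ne_zero hy (inv_ne_zero hx0)
    obtain ⟨t, ht⟩ := exists_kappa h hc
    have hH : HelS h t ∈ N := hB (HelS_smul_inf h t)
    have h1 : HelS h t * TelS h 0 x * (HelS h t)⁻¹ ∈ V :=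
      (Subgroup.mem_normalizer_iff.1 (hNV hH) _).1 hv
    have h2 := conj_TelS_zero h 0 0 t x
    rw [TelS_zero, one_mul, ht] at h2
    rw [h2] at h1
    have e : y * x⁻¹ * x = y := by field_simp
    rw [e] at h1
    exact h1

/-! ### general `E`, in the model `Cfsg.Sz F m` -/

theorem flz_good (h : FH F m) (E : Subgroup (Cfsg.Sz F m)) (hE : Nat.card E = Fintype.card F)
    (hE2 : ∀ a ∈ E, a * a = 1) {x : Cfsg.Sz F m} (hx : ¬ ∃ k : ℕ, orderOf x = 2 ^ k) :
    FLGood E x := by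
  obtain ⟨g, rfl⟩ := flz_exists_conj h E hE hE2
  exact (flz_good_Z h hx).conj g

theorem flz_uniq (h : FH F m) (E : Subgroup (Cfsg.Sz F m)) (hE : Nat.card E = Fintype.card F)
    (hE2 : ∀ a ∈ E, a * a = 1) : FLUniq 2 E := by
  obtain ⟨g, rfl⟩ := flz_exists_conj h E hE hE2
  exact (flz_uniq_Z h).conj g

/-! ### transport to `Cfsg.Lie.Sz F (2 ^ (m + 1))` -/

theorem flz_transport (h : FH F m) (E : Subgroup ↥(Cfsg.Lie.Sz F (2 ^ (m + 1))))
    (hE : Nat.card E = Fintype.card F) (hE2 : ∀ a ∈ E, a * a = 1) :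
    ∃ E₀ : Subgroup (Cfsg.Sz F m), Nat.card E₀ = Fintype.card F ∧ (∀ a ∈ E₀, a * a = 1) ∧
      E₀.map (lieEquiv h).toMonoidHom = E := by
  refine ⟨E.comap (lieEquiv h).toMonoidHom, ?_, ?_, ?_⟩
  · rw [← hE]
    have e : E.comap (lieEquiv h).toMonoidHom ≃ E :=
      { toFun := fun a => ⟨lieEquiv h a, a.2⟩
        invFun := fun b => ⟨(lieEquiv h).symm b, by
          show lieEquiv h ((lieEquiv h).symm b) ∈ E
          rw [MulEquiv.apply_symm_apply]; exact b.2⟩
        left_inv := fun a => Subtype.ext ((lieEquiv h).symm_apply_apply a)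
        right_inv := fun b => Subtype.ext ((lieEquiv h).apply_symm_apply b) }
    exact Nat.card_congr e
  · intro a ha
    have h1 := hE2 _ ha
    apply (lieEquiv h).injective
    rw [map_mul, map_one]
    exact h1
  · exact Subgroup.map_comap_eq_self_of_surjective (lieEquiv h).surjective E

/-- **(SZ), first half**: every element of `Sz(F)` which is not a `2`-element is good. -/
theorem fl_sz_free {F : Type*} [Field F] [Fintype F] (m : ℕ) (hm : 1 ≤ m)
    (hF : Fintype.card F = 2 ^ (2 * m + 1)) (E : Subgroup ↥(Cfsg.Lie.Sz F (2 ^ (m + 1))))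
    (hE : Nat.card E = Fintype.card F) (hE2 : ∀ a ∈ E, a * a = 1)
    (x : ↥(Cfsg.Lie.Sz F (2 ^ (m + 1)))) (hx : ¬ ∃ k : ℕ, orderOf x = 2 ^ k) : FLGood E x := by
  have h : FH F m := ⟨hm, hF⟩
  obtain ⟨E₀, hE₀, hE₀2, rfl⟩ := flz_transport h E hE hE2
  have hx₀ : ¬ ∃ k : ℕ, orderOf ((lieEquiv h).symm x) = 2 ^ k := by
    rw [MulEquiv.orderOf_eq]
    exact hx
  have key := (flz_good h E₀ hE₀ hE₀2 hx₀).map_equiv (lieEquiv h)
  rw [MulEquiv.apply_symm_apply] at key
  exact key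

/-- **(SZ), second half**: uniqueness of `E` in its normalizer. -/
theorem fl_sz_uniq {F : Type*} [Field F] [Fintype F] (m : ℕ) (hm : 1 ≤ m)
    (hF : Fintype.card F = 2 ^ (2 * m + 1)) (E : Subgroup ↥(Cfsg.Lie.Sz F (2 ^ (m + 1))))
    (hE : Nat.card E = Fintype.card F) (hE2 : ∀ a ∈ E, a * a = 1) : FLUniq 2 E := by
  have h : FH F m := ⟨hm, hF⟩
  obtain ⟨E₀, hE₀, hE₀2, rfl⟩ := flz_transport h E hE hE2
  exact (flz_uniq h E₀ hE₀ hE₀2).map_equiv (lieEquiv h)

end Cfsg.Agent.FrakL
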