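import Mathlib
import Cfsg.Agent.FrakL.Defs

/-!
# 𝔏_G(Y_M) lemmas (S2861, S2863), package (TWO) (helper6)

The case `|Ē| = 2`: a finite group generated by two conjugate subgroups of order two is dihedral of twice
odd order; every element that is not a `2`-element is a product of two non-commuting conjugate involutions
(`fl_two_free`), and the subgroup of order two is self-centralizing (`fl_two_uniq`).
-/

set_option autoImplicit false
set_option linter.unusedVariables false

namespace Cfsg.Agent.FrakL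

section

variable {Γ : Type*} [Group Γ]

/-- a subgroup of order two is `{1, t}` for an involution `t`. -/
theorem flt_exists_gen (E : Subgroup Γ) (hE : Nat.card E = 2) :
    ∃ t : Γ, t ∈ E ∧ t ≠ 1 ∧ t * t = 1 ∧ ∀ y ∈ E, y = 1 ∨ y = t := by
  obtain ⟨t, ht1, htu⟩ := (Nat.card_eq_two_iff' (1 : E)).mp hE
  have ht1' : (t : Γ) ≠ 1 := fun h => ht1 (Subtype.ext h)
  have hall : ∀ y ∈ E, y = 1 ∨ y = (t : Γ) := by
    intro y hy
    by_cases h1 : y = 1
    · exact Or.inl h1
    · right
      have : (⟨y, hy⟩ : E) = t := htu ⟨y, hy⟩ (fun h => h1 (congrArg Subtype.val h))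
      exact congrArg Subtype.val this
  refine ⟨t, t.2, ht1', ?_, hall⟩
  rcases hall (t * t) (E.mul_mem t.2 t.2) with h | h
  · exact h
  · exfalso
    apply ht1'
    have : (t : Γ) * t = t * 1 := by rw [mul_one]; exact h
    exact mul_left_cancel this

/-- membership in a conjugate of `{1, t}`. -/
theorem flt_mem_conj {E : Subgroup Γ} {t : Γ} (htE : t ∈ E) (hall : ∀ y ∈ E, y = 1 ∨ y = t) (c y : Γ) :
    y ∈ flConj E c ↔ y = 1 ∨ y = c * t * c⁻¹ := by
  constructor
  · rintro ⟨e, he, rfl⟩
    rcases hall e he with h | h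
    · left; subst h; simp
    · right; subst h; simp [MulAut.conj_apply]
  · rintro (h | h)
    · subst h; exact Subgroup.one_mem _
    · subst h; exact ⟨t, htE, by simp [MulAut.conj_apply]⟩

variable {t r : Γ}

/-- `r ^ a * t = t * r ^ (-a)` when `t` is an involution inverting `r`. -/
theorem flt_zpow_mul (ht : t * t = 1) (hr : t * r * t = r⁻¹) (a : ℤ) : r ^ a * t = t * r ^ (-a) := by
  have htinv : t⁻¹ = t := inv_eq_of_mul_eq_one_right ht
  have h1 : t * r ^ a * t⁻¹ = (t * r * t⁻¹) ^ a := (conj_zpow (a := t) (b := r) (i := a)).symm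
  rw [htinv, hr, inv_zpow', ] at h1
  -- h1 : t * r ^ a * t = r ^ (-a)
  have : r ^ a * t = t * (t * r ^ a * t) := by
    rw [← mul_assoc, ← mul_assoc, ht, one_mul]
  rw [this, h1]

/-- the dihedral set `{r ^ k} ∪ {t * r ^ k}` as a subgroup. -/
def fltDih (ht : t * t = 1) (hr : t * r * t = r⁻¹) : Subgroup Γ where
  carrier := {y | ∃ k : ℤ, y = r ^ k ∨ y = t * r ^ k}
  one_mem' := ⟨0, Or.inl (by simp)⟩
  mul_mem' := by
    rintro a b ⟨i, hi | hi⟩ ⟨j, hj | hj⟩
    · exact ⟨i + j, Or.inl (by rw [hi, hj, zpow_add])⟩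
    · refine ⟨-i + j, Or.inr ?_⟩
      rw [hi, hj, ← mul_assoc, flt_zpow_mul ht hr i, mul_assoc, ← zpow_add]
    · exact ⟨i + j, Or.inr (by rw [hi, hj, mul_assoc, zpow_add])⟩
    · refine ⟨-i + j, Or.inl ?_⟩
      rw [hi, hj, mul_assoc, ← mul_assoc (r ^ i), flt_zpow_mul ht hr i, mul_assoc, ← mul_assoc, ht, one_mul,
        ← zpow_add]
  inv_mem' := by
    rintro a ⟨i, hi | hi⟩
    · exact ⟨-i, Or.inl (by rw [hi, zpow_neg])⟩
    · refine ⟨i, Or.inr ?_⟩
      have htinv : t⁻¹ = t := inv_eq_of_mul_eq_one_right ht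
      rw [hi, mul_inv_rev, htinv, ← zpow_neg, flt_zpow_mul ht hr (-i), neg_neg]

theorem flt_mem_dih (ht : t * t = 1) (hr : t * r * t = r⁻¹) (y : Γ) :
    y ∈ fltDih ht hr ↔ ∃ k : ℤ, y = r ^ k ∨ y = t * r ^ k := Iff.rfl

end

/-- the structure of a group generated by two conjugate subgroups of order two. -/
theorem flt_structure {Γ : Type*} [Group Γ] (E : Subgroup Γ) (hE : Nat.card E = 2) (g : Γ)
    (hgen : E ⊔ flConj E g = ⊤) :
    ∃ t r : Γ, ∃ j : ℤ, t ∈ E ∧ t ≠ 1 ∧ t * t = 1 ∧ (∀ y ∈ E, y = 1 ∨ y = t) ∧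
      (∀ a : ℤ, r ^ a * t = t * r ^ (-a)) ∧ (∀ y : Γ, ∃ k : ℤ, y = r ^ k ∨ y = t * r ^ k) ∧
      (∀ k : ℤ, r ^ k = r ^ (2 * j * k)) := by
  obtain ⟨t, htE, ht1, ht, hall⟩ := flt_exists_gen E hE
  have htinv : t⁻¹ = t := inv_eq_of_mul_eq_one_right ht
  set t' : Γ := g * t * g⁻¹ with ht'
  have ht't' : t' * t' = 1 := by
    rw [ht']
    calc g * t * g⁻¹ * (g * t * g⁻¹) = g * (t * t) * g⁻¹ := by group
      _ = 1 := by rw [ht]; group
  have ht'inv : t'⁻¹ = t' := inv_eq_of_mul_eq_one_right ht't'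
  set r : Γ := t * t' with hrdef
  have hr : t * r * t = r⁻¹ := by
    rw [hrdef, mul_inv_rev, htinv, ht'inv, ← mul_assoc, ht, one_mul]
  have hcomm := flt_zpow_mul ht hr
  -- every element is in the dihedral subgroup
  have htop : (⊤ : Subgroup Γ) ≤ fltDih ht hr := by
    rw [← hgen]
    refine sup_le ?_ ?_
    · intro y hy
      rcases hall y hy with h | h
      · subst h; exact Subgroup.one_mem _
      · subst h; exact ⟨0, Or.inr (by simp)⟩
    · intro y hy
      rcases (flt_mem_conj htE hall g y).mp hy with h | h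
      · subst h; exact Subgroup.one_mem _
      · refine ⟨1, Or.inr ?_⟩
        rw [h, zpow_one, hrdef, ← mul_assoc, ht, one_mul]
  have hel : ∀ y : Γ, ∃ k : ℤ, y = r ^ k ∨ y = t * r ^ k := fun y => htop (Subgroup.mem_top y)
  -- `r` is an even power of itself
  have htr : t * r = t' := by rw [hrdef, ← mul_assoc, ht, one_mul]
  have hj : ∃ j : ℤ, r = r ^ (2 * j) := by
    obtain ⟨k, hk | hk⟩ := hel g
    · refine ⟨-k, ?_⟩
      have h1 : t' = t * r ^ (-(2 * k)) := by
        rw [ht', hk, hcomm k, ← zpow_neg, mul_assoc, ← zpow_add]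
        congr 2; ring
      have h2 : t * r = t * r ^ (-(2 * k)) := htr.trans h1
      have h3 := mul_left_cancel h2
      rw [h3]; congr 1; ring
    · refine ⟨k, ?_⟩
      have h1 : t' = t * r ^ (2 * k) := by
        have hginv : g⁻¹ = t * r ^ k := by
          rw [hk, mul_inv_rev, htinv, ← zpow_neg, hcomm (-k), neg_neg]
        rw [ht', hginv, hk]
        calc t * r ^ k * t * (t * r ^ k) = t * r ^ k * (t * t) * r ^ k := by group
          _ = t * (r ^ k * r ^ k) := by rw [ht]; group
          _ = t * r ^ (2 * k) := by rw [← zpow_add]; congr 2; ring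
      exact mul_left_cancel (htr.trans h1)
  obtain ⟨j, hj⟩ := hj
  refine ⟨t, r, j, htE, ht1, ht, hall, hcomm, hel, ?_⟩
  intro k
  calc r ^ k = (r ^ (2 * j)) ^ k := by rw [← hj]
    _ = r ^ (2 * j * k) := by rw [← zpow_mul]

/-- **(TWO), free part**: every element that is not a `2`-element is good. -/
theorem fl_two_free {Γ : Type*} [Group Γ] [Finite Γ] (E : Subgroup Γ) (hE : Nat.card E = 2) (g : Γ)
    (hgen : E ⊔ flConj E g = ⊤) (x : Γ) (hx : ¬ ∃ k : ℕ, orderOf x = 2 ^ k) : FLGood E x := by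
  obtain ⟨t, r, j, htE, ht1, ht, hall, hcomm, hel, hsq⟩ := flt_structure E hE g hgen
  have htinv : t⁻¹ = t := inv_eq_of_mul_eq_one_right ht
  -- `r ^ k` commuting with `t` is trivial
  have hcent : ∀ k : ℤ, r ^ k * t = t * r ^ k → r ^ k = 1 := by
    intro k hk
    rw [hcomm k] at hk
    have h1 : r ^ (-k) = r ^ k := mul_left_cancel hk
    have h2 : r ^ (2 * k) = 1 := by
      have : r ^ (2 * k) = r ^ k * r ^ k := by rw [← zpow_add]; congr 1; ring
      rw [this]
      nth_rewrite 1 [← h1]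
      rw [← zpow_add]; simp
    rw [hsq k]
    have : (2 * j * k : ℤ) = (2 * k) * j := by ring
    rw [this, zpow_mul, h2, one_zpow]
  obtain ⟨k, hk | hk⟩ := hel x
  swap
  · -- `x = t * r ^ k` has order at most two
    exfalso
    have hxx : x * x = 1 := by
      rw [hk, mul_assoc, ← mul_assoc (r ^ k), hcomm k, mul_assoc, ← mul_assoc, ht, one_mul, ← zpow_add]
      simp
    have hdvd : orderOf x ∣ 2 := orderOf_dvd_of_pow_eq_one (by rw [pow_two]; exact hxx)
    rcases (Nat.dvd_prime Nat.prime_two).mp hdvd with h | h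
    · exact hx ⟨0, by rw [h]; rfl⟩
    · exact hx ⟨1, by rw [h]; rfl⟩
  · have hx1 : x ≠ 1 := by
      intro h
      exact hx ⟨0, by rw [h, orderOf_one]; rfl⟩
    have hrk1 : r ^ k ≠ 1 := fun h => hx1 (hk.trans h)
    -- the conjugating element
    set c : Γ := r ^ (-(j * k)) with hc
    have hcu : c * t * c⁻¹ = t * r ^ k := by
      rw [hc, ← zpow_neg, neg_neg, hcomm (-(j * k)), neg_neg, mul_assoc, ← zpow_add, hsq k]
      congr 2; ring
    have hm1 : ∀ y : Γ, y ∈ flConj E 1 ↔ y = 1 ∨ y = t := by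
      intro y
      rw [flt_mem_conj htE hall 1 y]; simp
    have hm2 : ∀ y : Γ, y ∈ flConj E c ↔ y = 1 ∨ y = t * r ^ k := by
      intro y
      rw [flt_mem_conj htE hall c y, hcu]
    have hu2ne : t * r ^ k ≠ 1 := by
      intro h
      -- then `r ^ k = t`, which commutes with `t`
      have h2 : r ^ k = t := by
        have : t * r ^ k = t * t := by rw [h, ht]
        exact mul_left_cancel this
      exact hrk1 (hcent k (by rw [h2]))
    refine ⟨1, c, t, t * r ^ k, (hm1 t).mpr (Or.inr rfl), (hm2 _).mpr (Or.inr rfl), ?_, ?_, ?_⟩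
    · rw [hk, ← mul_assoc, ht, one_mul]
    · -- `t` does not normalize `{1, t * r ^ k}`
      intro hn
      have h1 := (Subgroup.mem_normalizer_iff.mp hn (t * r ^ k)).mp ((hm2 _).mpr (Or.inr rfl))
      rcases (hm2 _).mp h1 with h | h
      · apply hu2ne
        have : t * r ^ k = t⁻¹ * (t * (t * r ^ k) * t⁻¹) * t := by group
        rw [this, h]; group
      · rw [htinv] at h
        -- `t * (t * r ^ k) * t = t * r ^ k`, so `r ^ k * t = t * r ^ k`
        apply hrk1
        apply hcent k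
        have : r ^ k * t = t * (t * r ^ k) * t := by rw [← mul_assoc, ht, one_mul]
        rw [this, h]
    · -- `t * r ^ k` does not normalize `{1, t}`
      intro hn
      have h1 := (Subgroup.mem_normalizer_iff.mp hn t).mp ((hm1 t).mpr (Or.inr rfl))
      rcases (hm1 _).mp h1 with h | h
      · apply ht1
        have : t = (t * r ^ k)⁻¹ * (t * r ^ k * t * (t * r ^ k)⁻¹) * (t * r ^ k) := by group
        rw [this, h]; group
      · apply hrk1
        apply hcent k
        -- `(t r^k) t (t r^k)⁻¹ = t` gives `t r^k t = t t r^k`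
        have h2 : t * r ^ k * t = t * (t * r ^ k) := by
          have : t * r ^ k * t = (t * r ^ k * t * (t * r ^ k)⁻¹) * (t * r ^ k) := by group
          rw [this, h]
        have h3 : r ^ k * t = t * r ^ k := by
          have : t * (r ^ k * t) = t * (t * r ^ k) := by rw [← mul_assoc]; exact h2
          exact mul_left_cancel this
        exact h3

/-- **(TWO), uniqueness part**: the subgroup of order two is self-centralizing, hence `FLUniq`. -/
theorem fl_two_uniq {Γ : Type*} [Group Γ] [Finite Γ] (E : Subgroup Γ) (hE : Nat.card E = 2) (g : Γ)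
    (hgen : E ⊔ flConj E g = ⊤) (hne : (⊤ : Subgroup Γ) ≠ E) : FLUniq 2 E := by
  obtain ⟨t, r, j, htE, ht1, ht, hall, hcomm, hel, hsq⟩ := flt_structure E hE g hgen
  have htinv : t⁻¹ = t := inv_eq_of_mul_eq_one_right ht
  have hcent : ∀ k : ℤ, r ^ k * t = t * r ^ k → r ^ k = 1 := by
    intro k hk
    rw [hcomm k] at hk
    have h1 : r ^ (-k) = r ^ k := mul_left_cancel hk
    have h2 : r ^ (2 * k) = 1 := by
      have : r ^ (2 * k) = r ^ k * r ^ k := by rw [← zpow_add]; congr 1; ring
      rw [this]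
      nth_rewrite 1 [← h1]
      rw [← zpow_add]; simp
    rw [hsq k]
    have : (2 * j * k : ℤ) = (2 * k) * j := by ring
    rw [this, zpow_mul, h2, one_zpow]
  intro N hEN hNE hmax V hVN hNV hVab hVp hVne
  -- `N ≤ E`
  have hNle : N ≤ E := by
    intro y hy
    have hyn := hNE hy
    have h1 := (Subgroup.mem_normalizer_iff.mp hyn t).mp htE
    have hyt : y * t = t * y := by
      rcases hall _ h1 with h | h
      · exfalso; apply ht1
        have : t = y⁻¹ * (y * t * y⁻¹) * y := by group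
        rw [this, h]; group
      · have : y * t = (y * t * y⁻¹) * y := by group
        rw [this, h]
    obtain ⟨k, hk | hk⟩ := hel y
    · have : r ^ k = 1 := hcent k (by rw [← hk]; exact hyt)
      rw [hk, this]; exact E.one_mem
    · have h2 : r ^ k * t = t * r ^ k := by
        have : t * (r ^ k * t) = t * (t * r ^ k) := by
          rw [← mul_assoc, ← hk]; exact hyt
        exact mul_left_cancel this
      have : r ^ k = 1 := hcent k h2
      rw [hk, this, mul_one]; exact htE
  apply le_antisymm (hVN.trans hNle)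
  -- `V` contains a nontrivial element of `E`, which is `t`
  obtain ⟨⟨v, hvV⟩, hv⟩ := (Subgroup.ne_bot_iff_exists_ne_one).mp hVne
  have hv1 : v ≠ 1 := fun h => hv (Subtype.ext h)
  have hvE : v ∈ E := hNle (hVN hvV)
  rcases hall v hvE with h | h
  · exact absurd h hv1
  · intro y hy
    rcases hall y hy with h' | h'
    · rw [h']; exact V.one_mem
    · rw [h', ← h]; exact hvV

end Cfsg.Agent.FrakL
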