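import Mathlib
import Cfsg.Agent.FrakL.Defs

/-!
# S2861: from `FLUniq` in `L / O_p(L)` to the uniqueness statement over `O_p(L)` (package U61)
-/

set_option autoImplicit false

namespace Cfsg.Agent.FrakL

open Subgroup

/-- a subgroup closed under conjugation by `N` is normalized by `N` -/
theorem flq_le_normalizer_of_conj {Γ : Type*} [Group Γ] {N E : Subgroup Γ}
    (h : ∀ z ∈ N, ∀ w ∈ E, z * w * z⁻¹ ∈ E) : N ≤ Subgroup.normalizer (E : Set Γ) := by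
  intro z hz
  rw [mem_set_normalizer_iff]
  intro w
  constructor
  · intro hw
    exact h z hz w hw
  · intro hw
    have h1 := h z⁻¹ (N.inv_mem hz) _ hw
    have h2 : z⁻¹ * (z * w * z⁻¹) * z⁻¹⁻¹ = w := by group
    rw [h2] at h1
    exact h1

section

variable {G : Type*} [Group G] {p : ℕ} {L : Subgroup G}

/-- membership in `O_p(L)` viewed in `G` -/
theorem flq_mem_pCoreOf (l : ↥L) : (l : G) ∈ Cfsg.pCoreOf p L ↔ l ∈ Cfsg.pCore p ↥L := by
  unfold Cfsg.pCoreOf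
  constructor
  · rintro ⟨l', hl', h⟩
    have : l' = l := Subtype.ext h
    rw [← this]; exact hl'
  · intro h
    exact ⟨l, h, rfl⟩

theorem flq_pCoreOf_le : Cfsg.pCoreOf p L ≤ L := by
  unfold Cfsg.pCoreOf
  exact Subgroup.map_subtype_le _

/-- the kernel of `L → L / O_p(L)` -/
theorem flqu_mk_eq_one_iff [(Cfsg.pCore p ↥L).Normal] (l : ↥L) :
    QuotientGroup.mk' (Cfsg.pCore p ↥L) l = 1 ↔ (l : G) ∈ Cfsg.pCoreOf p L := by
  rw [flq_mem_pCoreOf]
  exact QuotientGroup.eq_one_iff l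

/-- membership in the image of `X`, for `O_p(L) ≤ X ≤ L` -/
theorem flq_mk_mem_iff [(Cfsg.pCore p ↥L).Normal] {X : Subgroup G} (hAX : Cfsg.pCoreOf p L ≤ X)
    (l : ↥L) :
    QuotientGroup.mk' (Cfsg.pCore p ↥L) l ∈
      (X.subgroupOf L).map (QuotientGroup.mk' (Cfsg.pCore p ↥L)) ↔ (l : G) ∈ X := by
  constructor
  · rintro ⟨x, hx, h⟩
    have hx' : (x : G) ∈ X := hx
    have h1 : QuotientGroup.mk' (Cfsg.pCore p ↥L) (x⁻¹ * l) = 1 := by
      rw [map_mul, map_inv, h, inv_mul_cancel]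
    rw [flqu_mk_eq_one_iff] at h1
    have h2 : (l : G) = (x : G) * ((x⁻¹ * l : ↥L) : G) := by
      simp
    rw [h2]
    exact X.mul_mem hx' (hAX h1)
  · intro h
    exact ⟨l, h, rfl⟩

end

theorem FLCtx.uniq_of_flUniq {G : Type*} [Group G] [Finite G] {p : ℕ} [Fact p.Prime]
    {L Y : Subgroup G} (C : FLCtx p L Y (Cfsg.pCoreOf p L)) [(Cfsg.pCore p ↥L).Normal]
    (hU : FLUniq p ((Y.subgroupOf L).map (QuotientGroup.mk' (Cfsg.pCore p ↥L)))) :
    ∀ V : Subgroup G, Cfsg.pCoreOf p L ≤ V →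
      V ≤ L ⊓ Subgroup.normalizer (Y : Set G) →
      L ⊓ Subgroup.normalizer (Y : Set G) ≤ Subgroup.normalizer (V : Set G) →
      (∀ a ∈ V, ∀ b ∈ V, a * b * a⁻¹ * b⁻¹ ∈ Cfsg.pCoreOf p L) →
      (∀ a ∈ V, a ^ p ∈ Cfsg.pCoreOf p L) → V ≠ Cfsg.pCoreOf p L →
      V = Y ⊔ Cfsg.pCoreOf p L := by
  intro V hAV hVN hNV hVab hVp hVA
  have hVL : V ≤ L := hVN.trans inf_le_left
  -- notation
  obtain ⟨π, hπ⟩ : ∃ π : ↥L →* ↥L ⧸ Cfsg.pCore p ↥L, π = QuotientGroup.mk' (Cfsg.pCore p ↥L) :=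
    ⟨_, rfl⟩
  have hπs : Function.Surjective π := by rw [hπ]; exact QuotientGroup.mk'_surjective _
  have hker : ∀ l : ↥L, π l = 1 ↔ (l : G) ∈ Cfsg.pCoreOf p L := by
    intro l; rw [hπ]; exact flqu_mk_eq_one_iff l
  have hmemV : ∀ l : ↥L, π l ∈ (V.subgroupOf L).map π ↔ (l : G) ∈ V := by
    intro l; rw [hπ]; exact flq_mk_mem_iff hAV l
  rw [← hπ] at hU
  -- the image of `N_L(Y)`
  set NL : Subgroup G := L ⊓ Subgroup.normalizer (Y : Set G) with hNL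
  have key := hU ((NL.subgroupOf L).map π) ?_ ?_ ?_ ((V.subgroupOf L).map π) ?_ ?_ ?_ ?_ ?_
  · -- conclude
    apply le_antisymm
    · intro g hg
      have hgL : g ∈ L := hVL hg
      have h1 : π ⟨g, hgL⟩ ∈ (V.subgroupOf L).map π := (hmemV ⟨g, hgL⟩).2 hg
      rw [key] at h1
      obtain ⟨y, hy, h⟩ := h1
      have hy' : (y : G) ∈ Y := hy
      have h2 : π (y⁻¹ * ⟨g, hgL⟩) = 1 := by
        rw [map_mul, map_inv, h, inv_mul_cancel]
      rw [hker] at h2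
      have h3 : g = (y : G) * ((y⁻¹ * ⟨g, hgL⟩ : ↥L) : G) := by simp
      rw [h3]
      exact Subgroup.mul_mem_sup hy' h2
    · apply sup_le _ hAV
      intro y hy
      have hyL : y ∈ L := C.hYL hy
      have h1 : π ⟨y, hyL⟩ ∈ (Y.subgroupOf L).map π := ⟨⟨y, hyL⟩, hy, rfl⟩
      rw [← key] at h1
      exact (hmemV ⟨y, hyL⟩).1 h1
  · -- Ē ≤ N̄
    rintro _ ⟨y, hy, rfl⟩
    have hy' : (y : G) ∈ Y := hy
    exact ⟨y, ⟨y.2, Subgroup.le_normalizer hy'⟩, rfl⟩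
  · -- N̄ normalizes Ē
    apply flq_le_normalizer_of_conj
    rintro _ ⟨n, hn, rfl⟩ _ ⟨y, hy, rfl⟩
    have hn' : (n : G) ∈ NL := hn
    have hy' : (y : G) ∈ Y := hy
    refine ⟨n * y * n⁻¹, ?_, by simp⟩
    show ((n * y * n⁻¹ : ↥L) : G) ∈ Y
    have := (mem_set_normalizer_iff.1 hn'.2 (y : G)).1 hy'
    simpa using this
  · -- proper overgroups of Ē lie in N̄
    intro X hEX hXtop
    set X' : Subgroup G := (X.comap π).map L.subtype with hX'
    have hX'L : X' ≤ L := Subgroup.map_subtype_le _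
    have hYX' : Y ≤ X' := by
      intro y hy
      have hyL : y ∈ L := C.hYL hy
      refine ⟨⟨y, hyL⟩, ?_, rfl⟩
      show π ⟨y, hyL⟩ ∈ X
      exact hEX ⟨⟨y, hyL⟩, hy, rfl⟩
    have hX'ne : X' ≠ L := by
      intro h
      apply hXtop
      rw [eq_top_iff]
      intro z _
      obtain ⟨l, rfl⟩ := hπs z
      have : (l : G) ∈ X' := by rw [h]; exact l.2
      obtain ⟨l', hl', h'⟩ := this
      have : l' = l := Subtype.ext h'
      rw [← this]; exact hl'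
    have h1 := C.hmax X' hYX' (lt_of_le_of_ne hX'L hX'ne)
    intro z hz
    obtain ⟨l, rfl⟩ := hπs z
    have hl : (l : G) ∈ X' := ⟨l, hz, rfl⟩
    exact ⟨l, ⟨l.2, h1 hl⟩, rfl⟩
  · -- V̄ ≤ N̄
    rintro _ ⟨v, hv, rfl⟩
    have hv' : (v : G) ∈ V := hv
    exact ⟨v, hVN hv', rfl⟩
  · -- N̄ normalizes V̄
    apply flq_le_normalizer_of_conj
    rintro _ ⟨n, hn, rfl⟩ _ ⟨v, hv, rfl⟩
    have hn' : (n : G) ∈ NL := hn
    have hv' : (v : G) ∈ V := hv
    refine ⟨n * v * n⁻¹, ?_, by simp⟩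
    show ((n * v * n⁻¹ : ↥L) : G) ∈ V
    have := (mem_set_normalizer_iff.1 (hNV hn') (v : G)).1 hv'
    simpa using this
  · -- V̄ abelian
    rintro _ ⟨a, ha, rfl⟩ _ ⟨b, hb, rfl⟩
    have ha' : (a : G) ∈ V := ha
    have hb' : (b : G) ∈ V := hb
    have h1 : π (a * b * a⁻¹ * b⁻¹) = 1 := by
      rw [hker]
      have := hVab _ ha' _ hb'
      simpa using this
    have h2 : π a * π b = (π (a * b * a⁻¹ * b⁻¹)) * (π b * π a) := by
      simp only [map_mul, map_inv]; group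
    rw [h2, h1, one_mul]
  · -- exponent p
    rintro _ ⟨a, ha, rfl⟩
    have ha' : (a : G) ∈ V := ha
    rw [← map_pow, hker]
    have := hVp _ ha'
    simpa using this
  · -- V̄ ≠ 1
    intro hbot
    apply hVA
    apply le_antisymm _ hAV
    intro v hv
    have hvL : v ∈ L := hVL hv
    have h1 : π ⟨v, hvL⟩ ∈ (V.subgroupOf L).map π := (hmemV ⟨v, hvL⟩).2 hv
    rw [hbot, Subgroup.mem_bot, hker] at h1
    exact h1

end Cfsg.Agent.FrakL
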