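import Mathlib
import Cfsg.Agent.FrakL.Defs
import Cfsg.Prelude.Def_Transfer

/-!
# S2861: from the uniqueness statement in `G` to the quotient `N_L(Y) / O_p(L)` (package U61, second half)
-/

set_option autoImplicit false

namespace Cfsg.Agent.FrakL

open Subgroup

/-- a subgroup closed under conjugation by `N` is normalized by `N` -/
theorem fly_le_normalizer_of_conj {Γ : Type*} [Group Γ] {N E : Subgroup Γ}
    (h : ∀ z ∈ N, ∀ w ∈ E, z * w * z⁻¹ ∈ E) : N ≤ Subgroup.normalizer (E : Set Γ) := by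
  intro z hz
  rw [mem_set_normalizer_iff]
  intro w
  constructor
  · intro hw
    exact h z hz w hw
  · intro hw
    have h1 := h z⁻¹ (N.inv_mem hz) _ hw
    have h2 : z⁻¹ * (z * w * z⁻¹) * z⁻¹⁻¹ = w := by group
    rw [h2] at h1
    exact h1

theorem fl_ybar_of_glevel {G : Type*} [Group G] {p : ℕ} [Fact p.Prime] (NL Y A : Subgroup G)
    (hA : A ≤ NL) (hY : Y ≤ NL)
    [hn : (A.subgroupOf NL).Normal] (hYn : NL ≤ Subgroup.normalizer (Y : Set G))
    (hYab : ∀ a ∈ Y, ∀ b ∈ Y, a * b = b * a) (hYp : ∀ a ∈ Y, a ^ p = 1) (hYA : ¬ Y ≤ A)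
    (huniq : ∀ V : Subgroup G, A ≤ V → V ≤ NL → NL ≤ Subgroup.normalizer (V : Set G) →
      (∀ a ∈ V, ∀ b ∈ V, a * b * a⁻¹ * b⁻¹ ∈ A) → (∀ a ∈ V, a ^ p ∈ A) → V ≠ A → V = Y ⊔ A) :
    let Ybar : Subgroup (↥NL ⧸ A.subgroupOf NL) :=
      (Y.subgroupOf NL).map (QuotientGroup.mk' (A.subgroupOf NL))
    Ybar ≠ ⊥ ∧ Ybar.Normal ∧ Cfsg.IsElementaryAbelian p Ybar ∧
      ∀ V : Subgroup (↥NL ⧸ A.subgroupOf NL), V.Normal → Cfsg.IsElementaryAbelian p V →
        V ≠ ⊥ → V = Ybar := by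
  intro Ybar
  obtain ⟨π, hπ⟩ : ∃ π : ↥NL →* ↥NL ⧸ A.subgroupOf NL, π = QuotientGroup.mk' (A.subgroupOf NL) :=
    ⟨_, rfl⟩
  have hπs : Function.Surjective π := by rw [hπ]; exact QuotientGroup.mk'_surjective _
  have hker : ∀ l : ↥NL, π l = 1 ↔ (l : G) ∈ A := by
    intro l
    rw [hπ]
    exact (QuotientGroup.eq_one_iff l).trans Subgroup.mem_subgroupOf
  have hYbar : ∀ z, z ∈ Ybar ↔ ∃ y : ↥NL, (y : G) ∈ Y ∧ π y = z := by
    intro z
    rw [hπ]
    constructor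
    · rintro ⟨y, hy, h⟩
      exact ⟨y, hy, h⟩
    · rintro ⟨y, hy, h⟩
      exact ⟨y, hy, h⟩
  clear_value Ybar
  refine ⟨?_, ?_, ?_, ?_⟩
  · -- Ȳ ≠ 1
    intro hbot
    apply hYA
    intro y hy
    have h1 : π ⟨y, hY hy⟩ ∈ Ybar := (hYbar _).2 ⟨⟨y, hY hy⟩, hy, rfl⟩
    rw [hbot, Subgroup.mem_bot, hker] at h1
    exact h1
  · -- Ȳ normal
    constructor
    intro z hz g
    obtain ⟨y, hy, rfl⟩ := (hYbar z).1 hz
    obtain ⟨n, rfl⟩ := hπs g
    rw [hYbar]
    refine ⟨n * y * n⁻¹, ?_, by simp⟩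
    have := (mem_set_normalizer_iff.1 (hYn n.2) (y : G)).1 hy
    simpa using this
  · -- Ȳ elementary abelian
    constructor
    · constructor
      constructor
      rintro ⟨a, ha⟩ ⟨b, hb⟩
      apply Subtype.ext
      obtain ⟨y, hy, rfl⟩ := (hYbar a).1 ha
      obtain ⟨y', hy', rfl⟩ := (hYbar b).1 hb
      show π y * π y' = π y' * π y
      rw [← map_mul, ← map_mul]
      congr 1
      apply Subtype.ext
      exact hYab _ hy _ hy'
    · intro a ha
      obtain ⟨y, hy, rfl⟩ := (hYbar a).1 ha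
      rw [← map_pow]
      have : y ^ p = 1 := by
        apply Subtype.ext
        have := hYp _ hy
        simpa using this
      rw [this, map_one]
  · -- uniqueness
    intro Vb hVn hVe hV1
    obtain ⟨hVc, hVp⟩ := hVe
    set V : Subgroup G := (Vb.comap π).map NL.subtype with hVdef
    have hmemV : ∀ l : ↥NL, (l : G) ∈ V ↔ π l ∈ Vb := by
      intro l
      constructor
      · rintro ⟨l', hl', h⟩
        have : l' = l := Subtype.ext h
        rw [← this]; exact hl'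
      · intro h
        exact ⟨l, h, rfl⟩
    have hVNL : V ≤ NL := Subgroup.map_subtype_le _
    have hAV : A ≤ V := by
      intro a ha
      have h1 : π ⟨a, hA ha⟩ = 1 := (hker _).2 ha
      exact (hmemV ⟨a, hA ha⟩).2 (by rw [h1]; exact one_mem _)
    have hnorm : NL ≤ Subgroup.normalizer (V : Set G) := by
      apply fly_le_normalizer_of_conj
      intro n hn' v hv
      have hvNL : v ∈ NL := hVNL hv
      have h1 : π ⟨v, hvNL⟩ ∈ Vb := (hmemV ⟨v, hvNL⟩).1 hv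
      have h2 : π (⟨n, hn'⟩ * ⟨v, hvNL⟩ * ⟨n, hn'⟩⁻¹) ∈ Vb := by
        rw [map_mul, map_mul, map_inv]
        exact hVn.conj_mem _ h1 _
      have h3 := (hmemV _).2 h2
      simpa using h3
    have hcomm : ∀ a ∈ V, ∀ b ∈ V, a * b * a⁻¹ * b⁻¹ ∈ A := by
      intro a ha b hb
      have haNL := hVNL ha
      have hbNL := hVNL hb
      have h1 : π ⟨a, haNL⟩ ∈ Vb := (hmemV ⟨a, haNL⟩).1 ha
      have h2 : π ⟨b, hbNL⟩ ∈ Vb := (hmemV ⟨b, hbNL⟩).1 hb
      have h3 : π ⟨a, haNL⟩ * π ⟨b, hbNL⟩ = π ⟨b, hbNL⟩ * π ⟨a, haNL⟩ := by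
        have := hVc.is_comm.comm (⟨_, h1⟩ : ↥Vb) ⟨_, h2⟩
        exact congrArg Subtype.val this
      have h4 : π (⟨a, haNL⟩ * ⟨b, hbNL⟩ * ⟨a, haNL⟩⁻¹ * ⟨b, hbNL⟩⁻¹) = 1 := by
        rw [map_mul, map_mul, map_mul, map_inv, map_inv, h3]; group
      have h5 := (hker _).1 h4
      simpa using h5
    have hpow : ∀ a ∈ V, a ^ p ∈ A := by
      intro a ha
      have haNL := hVNL ha
      have h1 : π ⟨a, haNL⟩ ∈ Vb := (hmemV ⟨a, haNL⟩).1 ha
      have h2 : π (⟨a, haNL⟩ ^ p) = 1 := by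
        rw [map_pow]; exact hVp _ h1
      have h3 := (hker _).1 h2
      simpa using h3
    have hVA : V ≠ A := by
      intro h
      apply hV1
      rw [eq_bot_iff]
      intro z hz
      obtain ⟨l, rfl⟩ := hπs z
      have h1 : (l : G) ∈ V := (hmemV l).2 hz
      rw [h] at h1
      rw [Subgroup.mem_bot, hker]
      exact h1
    have key := huniq V hAV hVNL hnorm hcomm hpow hVA
    -- the preimage of Ȳ
    have hYS : Y ⊔ A ≤ (Ybar.comap π).map NL.subtype := by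
      apply sup_le
      · intro y hy
        exact ⟨⟨y, hY hy⟩, (hYbar _).2 ⟨⟨y, hY hy⟩, hy, rfl⟩, rfl⟩
      · intro a ha
        have h1 : π ⟨a, hA ha⟩ = 1 := (hker _).2 ha
        refine ⟨⟨a, hA ha⟩, ?_, rfl⟩
        show π ⟨a, hA ha⟩ ∈ Ybar
        rw [h1]; exact one_mem _
    apply le_antisymm
    · intro z hz
      obtain ⟨l, rfl⟩ := hπs z
      have h1 : (l : G) ∈ V := (hmemV l).2 hz
      rw [key] at h1
      obtain ⟨l', hl', h⟩ := hYS h1
      have : l' = l := Subtype.ext h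
      rw [← this]; exact hl'
    · intro z hz
      obtain ⟨y, hy, rfl⟩ := (hYbar z).1 hz
      have h1 : (y : G) ∈ V := by
        rw [key]; exact Subgroup.mem_sup_left hy
      exact (hmemV y).1 h1

end Cfsg.Agent.FrakL
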