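import Cfsg.Agent.FrakL.Cases
import Cfsg.Agent.FrakL.SzPart
import Cfsg.Agent.FrakL.SL2Uniq
import Cfsg.Agent.FrakL.Two
import Cfsg.Agent.FrakL.Uniq
import Cfsg.Agent.FrakL.Ybar

/-!
# 𝔏_G(Y_M) lemmas: `FLUniq p Ē` in every case of `IsInFrakL`, and the `G`-level hypotheses of
`fl_ybar_of_glevel` (helper3)
-/

set_option autoImplicit false

namespace Cfsg.Agent.FrakL

variable {G : Type*} [Group G]

/-- transport of `FLUniq` back along an isomorphism. -/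
theorem fluc_of_map {Γ Γ' : Type*} [Group Γ] [Group Γ'] (φ : Γ ≃* Γ') {p : ℕ} {E : Subgroup Γ}
    (h : FLUniq p (E.map φ.toMonoidHom)) : FLUniq p E := by
  have h2 := FLUniq.map_equiv φ.symm h
  have h3 : (E.map φ.toMonoidHom).map φ.symm.toMonoidHom = E := by
    ext x
    constructor
    · rintro ⟨_, ⟨y, hy, rfl⟩, rfl⟩
      simpa using hy
    · intro hx
      exact ⟨φ x, ⟨x, hx, rfl⟩, by simp⟩
  rwa [h3] at h2

/-- `Ē ≠ L̄`: otherwise `L = Y·O_p(L) ≤ N(Y)`. -/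
theorem FLCtx.flE_ne_top {p : ℕ} {L Y : Subgroup G} (C : FLCtx p L Y (Cfsg.pCoreOf p L)) :
    (⊤ : Subgroup (↥L ⧸ Cfsg.pCore p ↥L)) ≠ flE p L Y := by
  intro h
  apply C.hNL
  intro l hl
  have h1 : flRho p L ⟨l, hl⟩ ∈ flE p L Y := by rw [← h]; exact Subgroup.mem_top _
  obtain ⟨y, hy, hyl⟩ := fll_mem_flE.mp h1
  have h2 : flRho p L (y⁻¹ * ⟨l, hl⟩) = 1 := by
    rw [map_mul, map_inv, hyl, inv_mul_cancel]
  rw [fll_rho_eq_one_iff] at h2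
  have h3 : l = (y : G) * ((y⁻¹ * ⟨l, hl⟩ : ↥L) : G) := by simp
  rw [h3]
  exact Subgroup.mul_mem _ (Subgroup.le_normalizer hy) (C.hAY h2)

/-- `Y ≰ O_p(L)`. -/
theorem FLCtx.not_le_pCoreOf {p : ℕ} {L Y : Subgroup G} (C : FLCtx p L Y (Cfsg.pCoreOf p L)) :
    ¬ Y ≤ Cfsg.pCoreOf p L := fun hYA =>
  C.hNL ((C.hYcl _ hYA C.hAn).trans C.hAY)

/-- `FLUniq p Ē` in all three cases. -/
theorem fluc_flUniq [Finite G] {p : ℕ} [Fact p.Prime] {M L : Subgroup G}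
    (hL : Cfsg.IsInFrakL p M L) : FLUniq p (flE p L (Cfsg.largestPReducedOf p M)) := by
  have C := FLCtx.of_isInFrakL hL
  rcases flk_cases hL with ⟨F, _, _, _, φ, hcard⟩ | ⟨h2, F, _, _, m, φ, hm, hF, hcard, hinv⟩ |
    ⟨h2, hcard⟩
  · exact fluc_of_map φ (fl_sl2_uniq _ hcard)
  · subst h2
    exact fluc_of_map φ (fl_sz_uniq m hm hF _ hcard hinv)
  · subst h2
    obtain ⟨g, hg⟩ := C.exists_gen
    exact fl_two_uniq _ hcard g hg C.flE_ne_top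

end Cfsg.Agent.FrakL
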